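import Mathlib
import Groth.Agent.Lib.Helper5.KFlatSite2.SkyFlat

/-!
# The stalk / skyscraper adjunction for (pre)sheaves of modules on a ringed space (helper5)
-/
set_option autoImplicit false
set_option linter.unusedSectionVars false
set_option linter.unusedVariables false
universe u
open CategoryTheory CategoryTheory.Limits Opposite TopologicalSpace
open Groth.Agent.Lib.Helper5.Misc.StalkTensor Groth.Agent.Lib.Helper5.Sky

namespace Groth.Agent.Lib.Helper5.StalkAdj

variable {X : TopCat.{u}} (R : X.Presheaf CommRingCat.{u}) (x : X)

/-- the stalk functor on presheaves of modules, with values in modules over the stalk ring -/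
noncomputable def stalkFun : PMod R ⥤ ModuleCat.{u} (R.stalk x) where
  obj M := ModuleCat.of (R.stalk x) (St M x)
  map f := ModuleCat.ofHom (stalkMapL x f)
  map_id M := by
    ext a
    obtain ⟨U, hU, m, rfl⟩ := gm_exists M x a
    exact stalkMap_gm x (𝟙 M) U hU m
  map_comp f g := by
    ext a
    exact stalkMap_comp x f g a

/-- the skyscraper functor -/
noncomputable def skyFun : ModuleCat.{u} (R.stalk x) ⥤ PMod R where
  obj N := sky R x N
  map f := skyMap R x f.hom
  map_id N := rfl
  map_comp f g := rfl

/-- the unit `M ⟶ sky (M_x)` -/
noncomputable def unitApp (M : PMod R) : M ⟶ sky R x (St M x) :=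
  PresheafOfModules.homMk
    { app := fun U => AddCommGrpCat.ofHom
        { toFun := fun (m : M.obj U) => (fun h => gm M x U.unop h.down m : SkyT x (St M x) U.unop)
          map_zero' := by funext h; exact map_zero _
          map_add' := fun a b => by funext h; exact map_add _ _ _ }
      naturality := fun U V i => by
        ext m
        funext h
        exact (gm_res M x i.unop h.down m) }
    (by
      intro U r m
      funext h
      exact gm_smul M x U.unop h.down r m)

lemma unitApp_app_apply (M : PMod R) (U : Opens X) (m : M.obj (op U)) (h : PLift (x ∈ U)) :
    ((unitApp R x M).app (op U) m : SkyT x (St M x) U) h = gm M x U h.down m := rfl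


/-- the counit `(sky N)_x ⟶ N` -/
noncomputable def counitApp (N : ModuleCat.{u} (R.stalk x)) :
    (stalkFun R x).obj ((skyFun R x).obj N) ⟶ N :=
  ModuleCat.ofHom (evEquiv R x N).toLinearMap

lemma counitApp_apply (N : ModuleCat.{u} (R.stalk x)) (a : St (sky R x N) x) :
    (counitApp R x N).hom a = ev R x N a := rfl

/-- the stalk functor is left adjoint to the skyscraper functor (presheaves of modules) -/
noncomputable def adj : stalkFun R x ⊣ skyFun R x :=
  Adjunction.mkOfUnitCounit
    { unit :=
        { app := fun M => unitApp R x M
          naturality := fun M M' f => by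
            apply PresheafOfModules.hom_ext
            intro U
            ext m
            funext h
            exact (stalkMap_gm x f U.unop h.down m).symm }
      counit :=
        { app := fun N => counitApp R x N
          naturality := fun N N' g => by
            ext a
            exact ev_stalkMap R x g.hom a }
      left_triangle := by
        ext M a
        obtain ⟨U, hU, m, rfl⟩ := gm_exists M x a
        show ev R x (St M x) (stalkMap x (unitApp R x M) (gm M x U hU m)) = gm M x U hU m
        rw [stalkMap_gm]
        erw [ev_gm]
        rfl
      right_triangle := by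
        ext N U φ
        funext h
        show ev R x N (gm (sky R x N) x U.unop h.down φ) = φ h
        erw [ev_gm] }


section Scheme

open AlgebraicGeometry

variable (X : Scheme.{u}) (x : X)

/-- the forgetful functor to presheaves of modules, in the form used here -/
noncomputable abbrev fgtS : X.Modules ⥤ PMod X.presheaf := SheafOfModules.forget X.ringCatSheaf

/-- the stalk functor on `𝒪_X`-modules -/
noncomputable def stalkSh : X.Modules ⥤ ModuleCat.{u} (X.presheaf.stalk x) :=
  fgtS X ⋙ stalkFun X.presheaf x

/-- the skyscraper functor to `𝒪_X`-modules -/
noncomputable def skyS : ModuleCat.{u} (X.presheaf.stalk x) ⥤ X.Modules where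
  obj N := (⟨sky X.presheaf x N, skyAb_isSheaf x N⟩ : SheafOfModules X.ringCatSheaf)
  map f := (⟨skyMap X.presheaf x f.hom⟩ : SheafOfModules.Hom _ _)
  map_id N := rfl
  map_comp f g := rfl

/-- the stalk functor is left adjoint to the skyscraper functor -/
noncomputable def adjS : stalkSh X x ⊣ skyS X x :=
  (adj X.presheaf x).restrictFullyFaithful (iC := fgtS X) (iD := 𝟭 _)
    (SheafOfModules.fullyFaithfulForget X.ringCatSheaf) (Functor.FullyFaithful.id _)
    (Functor.rightUnitor _).symm
    (Functor.leftUnitor _ ≪≫ NatIso.ofComponents (fun N => Iso.refl _) (fun f => by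
      simp only [Iso.refl_hom, Category.comp_id, Category.id_comp]
      rfl))

end Scheme

end Groth.Agent.Lib.Helper5.StalkAdj
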