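import Mathlib
import Groth.Agent.Lib.Helper5.Stalk.Adj

/-!
# Exactness of the stalk functors on `𝒪_X`-modules (helper5)
-/
set_option autoImplicit false
set_option linter.unusedSectionVars false
set_option linter.unusedVariables false
set_option linter.style.haveILetI false
universe u
open CategoryTheory CategoryTheory.Limits Opposite TopologicalSpace AlgebraicGeometry
open Groth.Agent.Lib.Helper5.Misc.StalkTensor Groth.Agent.Lib.Helper5.Sky

namespace Groth.Agent.Lib.Helper5.StalkAdj

variable (X : Scheme.{u}) (x : X)

lemma stalkSh_map_apply {M N : X.Modules} (φ : M ⟶ N) (a : St M.val x) :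
    ((stalkSh X x).map φ).hom a = stalkMap x φ.val a := rfl

instance : (stalkSh X x).Additive where
  map_add {M N φ ψ} := by
    ext a
    obtain ⟨U, hU, m, rfl⟩ := gm_exists M.val x a
    show stalkMap x (φ + ψ).val _ = stalkMap x φ.val _ + stalkMap x ψ.val _
    rw [stalkMap_gm, stalkMap_gm, stalkMap_gm, ← map_add]
    rfl

instance : (stalkSh X x).IsLeftAdjoint := (adjS X x).isLeftAdjoint

instance : PreservesFiniteColimits (stalkSh X x) := inferInstance

instance : (stalkSh X x).PreservesMonomorphisms where
  preserves {M N} φ hφ := by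
    rw [ModuleCat.mono_iff_injective]
    haveI : @Mono (ModSite.Mod X.sheaf) _ M N φ := hφ
    exact Groth.Agent.Lib.Helper5.Misc.StalkFlat.stalkMap_injective_of_mono X.sheaf
      (A := M) (B := N) φ x


instance : (stalkSh X x).PreservesHomology := by
  simp only [(stalkSh X x).exact_tfae.out 2 0]
  intro S h
  have key := (Functor.preservesFiniteColimits_tfae (stalkSh X x)).out 3 0
  have hpres : PreservesFiniteColimits (stalkSh X x) := inferInstance
  have h1 := key.mp hpres S h
  refine ShortComplex.ShortExact.mk' h1.left ?_ h1.right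
  have := h.2
  exact Functor.map_mono (stalkSh X x) _

instance : PreservesFiniteLimits (stalkSh X x) :=
  (stalkSh X x).preservesFiniteLimits_of_preservesHomology

variable {X}

/-- a module all of whose stalks vanish is zero -/
theorem isZero_of_stalks (M : X.Modules) (h : ∀ x : X, IsZero ((stalkSh X x).obj M)) : IsZero M := by
  rw [IsZero.iff_id_eq_zero]
  apply Scheme.Modules.hom_ext
  intro U
  ext m
  show m = 0
  let F : TopCat.Sheaf AddCommGrpCat.{u} X := ⟨M.presheaf, M.isSheaf⟩
  refine TopCat.Presheaf.section_ext F U m 0 ?_
  intro y hy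
  haveI : Subsingleton ((stalkSh X y).obj M) := ModuleCat.subsingleton_of_isZero (h y)
  exact Subsingleton.elim (α := ((stalkSh X y).obj M)) _ _

/-- exactness can be checked on stalks -/
theorem exact_of_stalks (S : ShortComplex X.Modules)
    (h : ∀ x : X, (S.map (stalkSh X x)).Exact) : S.Exact := by
  simp_rw [ShortComplex.exact_iff_isZero_homology] at h
  rw [ShortComplex.exact_iff_isZero_homology]
  apply isZero_of_stalks
  intro x
  exact (h x).of_iso (ShortComplex.mapHomologyIso S (stalkSh X x)).symm

/-- acyclicity can be checked on stalks -/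
theorem exactAt_of_stalks (L : CochainComplex X.Modules ℤ) (n : ℤ)
    (h : ∀ x : X, (((stalkSh X x).mapHomologicalComplex (ComplexShape.up ℤ)).obj L).ExactAt n) :
    L.ExactAt n := by
  rw [HomologicalComplex.exactAt_iff' L (n - 1) n (n + 1) (by simp) (by simp)]
  apply exact_of_stalks
  intro x
  have := h x
  rw [HomologicalComplex.exactAt_iff' _ (n - 1) n (n + 1) (by simp) (by simp)] at this
  exact this

end Groth.Agent.Lib.Helper5.StalkAdj
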