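import Mathlib
import Groth.Agent.Lib.Helper5.Stalk.Adj

/-!
# Stalks of pullbacks of modules (helper5)
-/
set_option autoImplicit false
set_option linter.unusedSectionVars false
set_option linter.unusedVariables false
universe u
open CategoryTheory CategoryTheory.Limits Opposite TopologicalSpace AlgebraicGeometry
open Groth.Agent.Lib.Helper5.Misc.StalkTensor Groth.Agent.Lib.Helper5.Sky

namespace Groth.Agent.Lib.Helper5.StalkAdj

variable {X Y : Scheme.{u}} (f : X ⟶ Y) (x : X)

/-- the module `N` over `𝒪_{X,x}` regarded over `𝒪_{Y,f(x)}` -/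
noncomputable abbrev resN (N : ModuleCat.{u} (X.presheaf.stalk x)) :
    ModuleCat.{u} (Y.presheaf.stalk (f x)) :=
  (ModuleCat.restrictScalars (f.stalkMap x).hom).obj N

/-- pushforward of a skyscraper: the comparison map -/
noncomputable def pushSkyHom (N : ModuleCat.{u} (X.presheaf.stalk x)) :
    (Scheme.Modules.pushforward f).obj ((skyS X x).obj N) ⟶
      (skyS Y (f x)).obj (resN f x N) :=
  (⟨PresheafOfModules.homMk
      { app := fun V => AddCommGrpCat.ofHom
          { toFun := fun (φ : SkyT x N (f ⁻¹ᵁ V.unop)) =>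
              (fun h => φ ⟨h.down⟩ : SkyT (f x) (resN f x N) V.unop)
            map_zero' := rfl
            map_add' := fun _ _ => rfl }
        naturality := fun U V i => rfl }
      (by
        intro V r φ
        funext h
        show (gr (R := X.presheaf) x (f ⁻¹ᵁ V.unop) h.down ((f.app V.unop).hom r)) •
            ((φ : SkyT x N (f ⁻¹ᵁ V.unop)) ⟨h.down⟩ : N) =
          ((f.stalkMap x).hom (gr (R := Y.presheaf) (f x) V.unop h.down r)) •
            ((φ : SkyT x N (f ⁻¹ᵁ V.unop)) ⟨h.down⟩ : N)
        congr 1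
        exact (Scheme.Hom.germ_stalkMap_apply f V.unop x h.down r).symm)⟩ : SheafOfModules.Hom _ _)


/-- pushforward of a skyscraper: the inverse comparison map -/
noncomputable def pushSkyInv (N : ModuleCat.{u} (X.presheaf.stalk x)) :
    (skyS Y (f x)).obj (resN f x N) ⟶
      (Scheme.Modules.pushforward f).obj ((skyS X x).obj N) :=
  (⟨PresheafOfModules.homMk
      { app := fun V => AddCommGrpCat.ofHom
          { toFun := fun (φ : SkyT (f x) (resN f x N) V.unop) =>
              (fun h => φ ⟨h.down⟩ : SkyT x N (f ⁻¹ᵁ V.unop))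
            map_zero' := rfl
            map_add' := fun _ _ => rfl }
        naturality := fun U V i => rfl }
      (by
        intro V r φ
        funext h
        show ((f.stalkMap x).hom (gr (R := Y.presheaf) (f x) V.unop h.down r)) •
            ((φ : SkyT (f x) (resN f x N) V.unop) ⟨h.down⟩ : N) =
          (gr (R := X.presheaf) x (f ⁻¹ᵁ V.unop) h.down ((f.app V.unop).hom r)) •
            ((φ : SkyT (f x) (resN f x N) V.unop) ⟨h.down⟩ : N)
        congr 1
        exact (Scheme.Hom.germ_stalkMap_apply f V.unop x h.down r))⟩ : SheafOfModules.Hom _ _)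

/-- pushforward of a skyscraper is a skyscraper -/
noncomputable def pushSkyIso :
    skyS X x ⋙ Scheme.Modules.pushforward f ≅
      ModuleCat.restrictScalars (f.stalkMap x).hom ⋙ skyS Y (f x) :=
  NatIso.ofComponents
    (fun N => { hom := pushSkyHom f x N, inv := pushSkyInv f x N, hom_inv_id := rfl, inv_hom_id := rfl })
    (fun g => rfl)


/-- the adjunction `(f^* -)_x ⊣ f_* sky_x` -/
noncomputable def adjPull :
    Scheme.Modules.pullback f ⋙ stalkSh X x ⊣ skyS X x ⋙ Scheme.Modules.pushforward f :=
  (Scheme.Modules.pullbackPushforwardAdjunction f).comp (adjS X x)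

/-- the adjunction `(-)_{f(x)} ⊗ 𝒪_{X,x} ⊣ sky_{f(x)} ∘ restriction` -/
noncomputable def adjExt :
    stalkSh Y (f x) ⋙ ModuleCat.extendScalars.{u, u, u} (f.stalkMap x).hom ⊣
      ModuleCat.restrictScalars.{u, u, u} (f.stalkMap x).hom ⋙ skyS Y (f x) :=
  (adjS Y (f x)).comp (ModuleCat.extendRestrictScalarsAdj.{u, u, u} (f.stalkMap x).hom)

/-- **the stalk of a pullback**: `(f^* M)_x ≅ M_{f(x)} ⊗_{𝒪_{Y,f(x)}} 𝒪_{X,x}`, naturally in `M` -/
noncomputable def stalkPullbackIso :
    Scheme.Modules.pullback f ⋙ stalkSh X x ≅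
      stalkSh Y (f x) ⋙ ModuleCat.extendScalars.{u, u, u} (f.stalkMap x).hom :=
  (adjPull f x).leftAdjointUniq ((adjExt f x).ofNatIsoRight (pushSkyIso f x).symm)


theorem flat_extendScalars {R S : Type u} [CommRing R] [CommRing S] (g : R →+* S)
    (M : ModuleCat.{u} R) [Module.Flat R M] :
    Module.Flat S ((ModuleCat.extendScalars.{u, u, u} g).obj M) := by
  let _ := g.toAlgebra
  exact (inferInstance : Module.Flat S (TensorProduct R S M))

/-- the stalk of `f^* M` at `x` is flat if the stalk of `M` at `f x` is -/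
theorem flat_stalk_pullback (M : Y.Modules)
    (hM : Module.Flat (Y.presheaf.stalk (f x)) ((stalkSh Y (f x)).obj M)) :
    Module.Flat (X.presheaf.stalk x)
      ((stalkSh X x).obj ((Scheme.Modules.pullback f).obj M)) := by
  have e := ((stalkPullbackIso f x).app M).toLinearEquiv
  have h2 : Module.Flat (X.presheaf.stalk x)
      ((ModuleCat.extendScalars.{u, u, u} (f.stalkMap x).hom).obj ((stalkSh Y (f x)).obj M)) :=
    flat_extendScalars (f.stalkMap x).hom ((stalkSh Y (f x)).obj M)
  exact (Module.Flat.equiv_iff e).2 h2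

/-- the pullback of a (stalkwise) flat module is (stalkwise) flat -/
theorem flatMod_pullback (M : Y.Modules) (hM : FlatMod.IsFlat M) :
    FlatMod.IsFlat ((Scheme.Modules.pullback f).obj M) :=
  fun x => flat_stalk_pullback f x M (hM (f x))

end Groth.Agent.Lib.Helper5.StalkAdj
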