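import Mathlib
import Groth.Agent.Lib.Helper5.Stalk.Exact
import Groth.Agent.Lib.Helper5.Stalk.Pull

/-!
# Pullback along a flat morphism is exact (helper5)
-/
set_option autoImplicit false
set_option linter.unusedSectionVars false
set_option linter.unusedVariables false
set_option linter.style.haveILetI false
universe u
open CategoryTheory CategoryTheory.Limits Opposite TopologicalSpace AlgebraicGeometry ZeroObject

namespace Groth.Agent.Lib.Helper5.StalkAdj

variable {X Y : Scheme.{u}}

/-- a morphism which is injective on all stalks is a monomorphism -/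
theorem mono_of_stalks {M N : X.Modules} (ψ : M ⟶ N)
    (h : ∀ x : X, Mono ((stalkSh X x).map ψ)) : Mono ψ := by
  let S : ShortComplex X.Modules := ShortComplex.mk (0 : (0 : X.Modules) ⟶ M) ψ zero_comp
  have hS : S.Exact := by
    apply exact_of_stalks
    intro x
    exact ((S.map (stalkSh X x)).exact_iff_mono ((stalkSh X x).map_zero _ _)).2 (h x)
  exact (S.exact_iff_mono rfl).1 hS

/-- ring level: extension of scalars along a flat ring map preserves monomorphisms -/
theorem mono_extendScalars_of_flat {R S : Type u} [CommRing R] [CommRing S] (g : R →+* S)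
    (hg : g.Flat) {M N : ModuleCat.{u} R} (φ : M ⟶ N) [Mono φ] :
    Mono ((ModuleCat.extendScalars.{u, u, u} g).map φ) := by
  rw [ModuleCat.mono_iff_injective]
  have hinj : Function.Injective φ.hom := (ModuleCat.mono_iff_injective _).1 inferInstance
  letI := g.toAlgebra
  haveI : Module.Flat R S := hg
  exact Module.Flat.lTensor_preserves_injective_linearMap (M := S) φ.hom hinj

variable (f : X ⟶ Y)

/-- pullback along a flat morphism preserves monomorphisms -/
theorem mono_pullback_map_of_flat [Flat f] {M N : Y.Modules} (φ : M ⟶ N) [Mono φ] :
    Mono ((Scheme.Modules.pullback f).map φ) := by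
  apply mono_of_stalks
  intro x
  have hnat : (stalkSh X x).map ((Scheme.Modules.pullback f).map φ) ≫
      (stalkPullbackIso f x).hom.app N = (stalkPullbackIso f x).hom.app M ≫
        (ModuleCat.extendScalars.{u, u, u} (f.stalkMap x).hom).map ((stalkSh Y (f x)).map φ) :=
    (stalkPullbackIso f x).hom.naturality φ
  have hm1 : Mono ((stalkSh Y (f x)).map φ) :=
    (inferInstance : (stalkSh Y (f x)).PreservesMonomorphisms).preserves φ
  have hm2 : Mono ((ModuleCat.extendScalars.{u, u, u} (f.stalkMap x).hom).map
      ((stalkSh Y (f x)).map φ)) :=
    @mono_extendScalars_of_flat _ _ _ _ (f.stalkMap x).hom (Flat.stalkMap f x) _ _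
      ((stalkSh Y (f x)).map φ) hm1
  have hm3 : Mono ((stalkPullbackIso f x).hom.app M ≫
      (ModuleCat.extendScalars.{u, u, u} (f.stalkMap x).hom).map ((stalkSh Y (f x)).map φ)) :=
    @mono_comp _ _ _ _ _ _ (IsIso.mono_of_iso _) _ hm2
  rw [← hnat] at hm3
  exact @mono_of_mono _ _ _ _ _ _ _ hm3


instance preservesMonomorphisms_pullback_of_flat [Flat f] :
    (Scheme.Modules.pullback f).PreservesMonomorphisms where
  preserves φ _ := mono_pullback_map_of_flat f φ

instance preservesHomology_pullback_of_flat [Flat f] :
    (Scheme.Modules.pullback f).PreservesHomology := by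
  simp only [(Scheme.Modules.pullback f).exact_tfae.out 2 0]
  intro S h
  have key := (Functor.preservesFiniteColimits_tfae (Scheme.Modules.pullback f)).out 3 0
  have hpres : PreservesFiniteColimits (Scheme.Modules.pullback f) := inferInstance
  have h1 := key.mp hpres S h
  refine ShortComplex.ShortExact.mk' h1.left ?_ h1.right
  have := h.2
  exact Functor.map_mono (Scheme.Modules.pullback f) _

/-- pullback along a flat morphism is exact -/
instance preservesFiniteLimits_pullback_of_flat [Flat f] :
    PreservesFiniteLimits (Scheme.Modules.pullback f) :=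
  (Scheme.Modules.pullback f).preservesFiniteLimits_of_preservesHomology

/-- restriction to an open subscheme is exact -/
instance preservesFiniteLimits_restrictFunctor {U : Scheme.{u}} (j : U ⟶ Y) [IsOpenImmersion j] :
    PreservesFiniteLimits (Scheme.Modules.restrictFunctor j) :=
  preservesFiniteLimits_of_natIso (Scheme.Modules.restrictFunctorIsoPullback j).symm

instance preservesFiniteColimits_restrictFunctor {U : Scheme.{u}} (j : U ⟶ Y) [IsOpenImmersion j] :
    PreservesFiniteColimits (Scheme.Modules.restrictFunctor j) := inferInstance

end Groth.Agent.Lib.Helper5.StalkAdj
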