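import Mathlib
import Groth.Agent.Lib.Helper5.Stalk.Pull
import Groth.Agent.Lib.Helper5.Stalk.Exact
import Groth.Prelude.Def_FlatMod2

/-!
# Finite locally free modules are (stalkwise) flat (helper5)
-/
set_option autoImplicit false
set_option linter.unusedSectionVars false
set_option linter.unusedVariables false
set_option linter.style.haveILetI false
universe u
open CategoryTheory CategoryTheory.Limits Opposite TopologicalSpace AlgebraicGeometry
open Groth.Agent.Lib.Helper5.Misc.StalkTensor Groth.Agent.Lib.Helper5.Sky
open Groth.Agent.Lib.Helper5.TensorLocal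

namespace Groth.Agent.Lib.Helper5.StalkAdj

section Presheaf

variable {X : TopCat.{u}} (R : X.Presheaf CommRingCat.{u}) (x : X)

/-- the unit presheaf of modules -/
noncomputable abbrev uP : PMod R := PresheafOfModules.unit (R ⋙ forget₂ CommRingCat RingCat)

/-- sections of the ring as sections of the unit module -/
def toU (U : Opens X) (s : R.obj (op U)) : (uP R).obj (op U) := s

lemma toU_res {U V : Opens X} (i : V ⟶ U) (s : R.obj (op U)) :
    res (uP R) i.op (toU R U s) = toU R V (R.map i.op s) := rfl

lemma toU_smul (U : Opens X) (r s : R.obj (op U)) :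
    r • toU R U s = toU R U (r * s) := rfl

/-- the comparison map `R_x → (unit)_x` -/
noncomputable def unitStalkMap : R.stalk x →ₗ[R.stalk x] St (uP R) x :=
  LinearMap.toSpanSingleton _ _ (gm (uP R) x ⊤ trivial (toU R ⊤ 1))

lemma unitStalkMap_gr (U : Opens X) (hx : x ∈ U) (s : R.obj (op U)) :
    unitStalkMap R x (gr (R := R) x U hx s) = gm (uP R) x U hx (toU R U s) := by
  have h1 : gm (uP R) x ⊤ trivial (toU R ⊤ 1) = gm (uP R) x U hx (toU R U 1) := by
    rw [← gm_res (uP R) x (homOfLE le_top : U ⟶ ⊤) hx, toU_res, map_one]
  show gr (R := R) x U hx s • gm (uP R) x ⊤ trivial (toU R ⊤ 1) = _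
  rw [h1]
  have := gm_smul (uP R) x U hx s (toU R U 1)
  rw [toU_smul, mul_one] at this
  exact this.symm

lemma unitStalkMap_bijective : Function.Bijective (unitStalkMap R x) := by
  constructor
  · rw [injective_iff_map_eq_zero]
    intro r hr
    obtain ⟨U, hx, s, rfl⟩ := TopCat.Presheaf.exists_germ_eq R (x := x) r
    change unitStalkMap R x (gr (R := R) x U hx s) = 0 at hr
    rw [unitStalkMap_gr] at hr
    have h0 : gm (uP R) x U hx (toU R U s) = gm (uP R) x U hx 0 := by rw [hr, map_zero]
    obtain ⟨W, hW, iU, iV, h⟩ := TopCat.Presheaf.germ_eq (uP R).presheaf x hx hx _ _ h0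
    have h' : R.map iU.op s = 0 := by
      have : toU R W (R.map iU.op s) = 0 := by
        rw [← toU_res]
        refine h.trans ?_
        exact map_zero _
      exact this
    have : R.germ U x hx s = R.germ W x hW (R.map iU.op s) :=
      (TopCat.Presheaf.germ_res_apply R iU x hW s).symm
    rw [this, h', map_zero]
  · intro a
    obtain ⟨U, hx, m, rfl⟩ := gm_exists (uP R) x a
    exact ⟨gr (R := R) x U hx m, unitStalkMap_gr R x U hx m⟩

/-- the stalk of the unit module is the stalk ring -/
noncomputable def unitStalkEquiv : R.stalk x ≃ₗ[R.stalk x] St (uP R) x :=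
  LinearEquiv.ofBijective (unitStalkMap R x) (unitStalkMap_bijective R x)

end Presheaf

section Scheme

variable (X : Scheme.{u}) (x : X)

/-- the stalk of the structure module is the local ring -/
noncomputable def stalkUnitIso :
    ModuleCat.of (X.presheaf.stalk x) (X.presheaf.stalk x) ≅
      (stalkSh X x).obj (Coh.structureModule X) :=
  (unitStalkEquiv X.presheaf x).toModuleIso

instance projective_stalk_unit :
    Projective ((stalkSh X x).obj (Coh.structureModule X)) :=
  Projective.of_iso (stalkUnitIso X x) inferInstance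

lemma projective_sigma' {C : Type*} [Category C] {β : Type*} (g : β → C) [HasCoproduct g]
    (h : ∀ b, Projective (g b)) : Projective (∐ g) where
  factors f e _ := ⟨Sigma.desc fun b => Projective.factorThru (Sigma.ι g b ≫ f) e, by
    ext b
    simp⟩

instance projective_stalk_free (n : ℕ) :
    Projective ((stalkSh X x).obj (FlatMod.freeMod X n)) := by
  have e := PreservesCoproduct.iso (stalkSh X x) (fun _ : Fin n => Coh.structureModule X)
  exact Projective.of_iso e.symm (projective_sigma' _ fun _ => projective_stalk_unit X x)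

theorem flat_stalk_free (n : ℕ) :
    Module.Flat (X.presheaf.stalk x) ((stalkSh X x).obj (FlatMod.freeMod X n)) := by
  have : Module.Projective (X.presheaf.stalk x) ((stalkSh X x).obj (FlatMod.freeMod X n)) :=
    inferInstance
  infer_instance

/-- descent of flatness along a bijective ring map -/
theorem flat_of_flat_extendScalars {R S : Type u} [CommRing R] [CommRing S] (g : R →+* S)
    (hg : Function.Bijective g) (M : ModuleCat.{u} R)
    (h : Module.Flat S ((ModuleCat.extendScalars.{u, u, u} g).obj M)) : Module.Flat R M := by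
  let _ := g.toAlgebra
  have e : R ≃ₗ[R] S := LinearEquiv.ofBijective (Algebra.linearMap R S) hg
  haveI : Module.FaithfullyFlat R S := Module.FaithfullyFlat.of_linearEquiv R R e.symm
  haveI : Module.Flat S (TensorProduct R S M) := h
  exact Module.Flat.of_flat_tensorProduct R M S

variable {X}

/-- finite locally free modules are flat -/
theorem flatMod_of_isFinLocFree (M : X.Modules) (hM : FlatMod.IsFinLocFree M) :
    FlatMod.IsFlat M := by
  intro x
  obtain ⟨U, n, hxU, ⟨e⟩⟩ := hM x
  let x' : (U : Scheme.{u}) := ⟨x, hxU⟩
  have h1 : Module.Flat ((U : Scheme.{u}).presheaf.stalk x')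
      ((stalkSh (U : Scheme.{u}) x').obj (M.restrict U.ι)) :=
    (Module.Flat.equiv_iff ((stalkSh (U : Scheme.{u}) x').mapIso e).toLinearEquiv).2
      (flat_stalk_free (U : Scheme.{u}) x' n)
  have e2 : (stalkSh (U : Scheme.{u}) x').obj (M.restrict U.ι) ≅
      (ModuleCat.extendScalars.{u, u, u} (U.ι.stalkMap x').hom).obj
        ((stalkSh X (U.ι x')).obj M) :=
    (stalkSh (U : Scheme.{u}) x').mapIso ((Scheme.Modules.restrictFunctorIsoPullback U.ι).app M) ≪≫
      (stalkPullbackIso U.ι x').app M
  have h2 := (Module.Flat.equiv_iff e2.toLinearEquiv).1 h1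
  have hbij : Function.Bijective (U.ι.stalkMap x').hom :=
    (ConcreteCategory.isIso_iff_bijective _).1 inferInstance
  exact flat_of_flat_extendScalars _ hbij _ h2

end Scheme

end Groth.Agent.Lib.Helper5.StalkAdj
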