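import Mathlib

/-!
# Right exact functors and acyclic complexes with "pure" cycles (helper5)
-/
set_option autoImplicit false
set_option linter.unusedSectionVars false
set_option linter.unusedVariables false
set_option linter.style.haveILetI false
universe v v' u u'
open CategoryTheory CategoryTheory.Limits HomologicalComplex

namespace Groth.Agent.Lib.Helper5.Splice

variable {A : Type u} [Category.{v} A] [Abelian A] {B : Type u'} [Category.{v'} B] [Abelian B]

section

variable (K : CochainComplex A ℤ) (n : ℤ)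

lemma epi_toCycles (hK : K.ExactAt n) : Epi (K.toCycles (n - 1) n) := by
  have h1 := (K.exactAt_iff' (n - 1) n (n + 1) (by simp) (by simp)).1 hK
  rw [ShortComplex.exact_iff_epi_toCycles] at h1
  have h2 : K.toCycles (n - 1) n ≫
      (K.cyclesIsoSc' (n - 1) n (n + 1) (by simp) (by simp)).hom =
        (K.sc' (n - 1) n (n + 1)).toCycles :=
    K.toCycles_cyclesIsoSc'_hom (n - 1) n (n + 1) (by simp) (by simp)
  have h3 : Epi (K.toCycles (n - 1) n ≫
      (K.cyclesIsoSc' (n - 1) n (n + 1) (by simp) (by simp)).hom) := by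
    rw [h2]; exact h1
  exact (epi_comp_iff_of_isIso _ _).1 h3

lemma epi_toCycles' (hK : K.ExactAt (n + 1)) : Epi (K.toCycles n (n + 1)) := by
  have h := epi_toCycles K (n + 1) hK
  have key : ∀ (m : ℤ) (hm : m = n), Epi (K.toCycles m (n + 1)) → Epi (K.toCycles n (n + 1)) := by
    intro m hm h'; subst hm; exact h'
  exact key (n + 1 - 1) (by omega) h

/-- the short complex `Z^n → K^n → Z^{n+1}` -/
noncomputable def cyclesSC : ShortComplex A :=
  ShortComplex.mk (K.iCycles n) (K.toCycles n (n + 1)) (by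
    rw [← cancel_mono (K.iCycles (n + 1)), Category.assoc, K.toCycles_i, K.iCycles_d, zero_comp])

lemma cyclesSC_exact : (cyclesSC K n).Exact := by
  let S' : ShortComplex A := ShortComplex.mk (K.iCycles n) (K.d n (n + 1)) (K.iCycles_d n (n + 1))
  have hS' : S'.Exact := ShortComplex.exact_of_f_is_kernel _ (K.cyclesIsKernel n (n + 1) (by simp))
  let φ : cyclesSC K n ⟶ S' :=
    { τ₁ := 𝟙 _
      τ₂ := 𝟙 _
      τ₃ := K.iCycles (n + 1)
      comm₁₂ := by simp [cyclesSC, S']
      comm₂₃ := by simp [cyclesSC, S'] }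
  haveI : Epi φ.τ₁ := (inferInstance : Epi (𝟙 (K.cycles n)))
  haveI : IsIso φ.τ₂ := (inferInstance : IsIso (𝟙 (K.X n)))
  haveI : Mono φ.τ₃ := (inferInstance : Mono (K.iCycles (n + 1)))
  exact (ShortComplex.exact_iff_of_epi_of_isIso_of_mono φ).2 hS'

end

/-- a right exact functor which preserves the monomorphisms `Z^n ↪ K^n` of an acyclic complex
preserves its acyclicity -/
theorem exactAt_map_of_mono_iCycles (G : A ⥤ B) [G.Additive] [PreservesFiniteColimits G]
    (K : CochainComplex A ℤ) (hK : ∀ n, K.ExactAt n) (hG : ∀ n, Mono (G.map (K.iCycles n))) (n : ℤ) :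
    ((G.mapHomologicalComplex (ComplexShape.up ℤ)).obj K).ExactAt n := by
  rw [HomologicalComplex.exactAt_iff' _ (n - 1) n (n + 1) (by simp) (by simp)]
  haveI h1 : Epi (K.toCycles (n - 1) n) := epi_toCycles K n (hK n)
  haveI h2 : Epi (K.toCycles n (n + 1)) := epi_toCycles' K n (hK (n + 1))
  have h2' : Epi (cyclesSC K n).g := h2
  have hpres : PreservesFiniteColimits G := inferInstance
  have key := (Functor.preservesFiniteColimits_tfae G).out 3 1
  obtain ⟨hex, hepi⟩ := key.1 hpres (cyclesSC K n) ⟨cyclesSC_exact K n, h2'⟩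
  -- first step
  let Sb : ShortComplex B := ShortComplex.mk (G.map (K.d (n - 1) n)) (G.map (K.toCycles n (n + 1)))
    (by
      rw [← G.map_comp, ← cancel_mono (G.map (K.iCycles (n + 1))), zero_comp, ← G.map_comp,
        Category.assoc, K.toCycles_i, K.d_comp_d, G.map_zero])
  have hSb : Sb.Exact := by
    let φ : Sb ⟶ (cyclesSC K n).map G :=
      { τ₁ := G.map (K.toCycles (n - 1) n)
        τ₂ := 𝟙 _
        τ₃ := 𝟙 _
        comm₁₂ := by
          show G.map (K.toCycles (n - 1) n) ≫ G.map (K.iCycles n) = G.map (K.d (n - 1) n) ≫ 𝟙 _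
          rw [← G.map_comp, K.toCycles_i, Category.comp_id]
        comm₂₃ := by
          show 𝟙 _ ≫ G.map (K.toCycles n (n + 1)) = G.map (K.toCycles n (n + 1)) ≫ 𝟙 _
          rw [Category.id_comp, Category.comp_id] }
    haveI : Epi φ.τ₁ := (inferInstance : Epi (G.map (K.toCycles (n - 1) n)))
    haveI : IsIso φ.τ₂ := (inferInstance : IsIso (𝟙 (G.obj (K.X n))))
    haveI : Mono φ.τ₃ := (inferInstance : Mono (𝟙 (G.obj (K.cycles (n + 1)))))
    exact (ShortComplex.exact_iff_of_epi_of_isIso_of_mono φ).2 hex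
  -- second step
  let φ : Sb ⟶ ((G.mapHomologicalComplex (ComplexShape.up ℤ)).obj K).sc' (n - 1) n (n + 1) :=
    { τ₁ := 𝟙 _
      τ₂ := 𝟙 _
      τ₃ := G.map (K.iCycles (n + 1))
      comm₁₂ := by
        show 𝟙 _ ≫ G.map (K.d (n - 1) n) = G.map (K.d (n - 1) n) ≫ 𝟙 _
        rw [Category.id_comp, Category.comp_id]
      comm₂₃ := by
        show 𝟙 _ ≫ G.map (K.d n (n + 1)) = G.map (K.toCycles n (n + 1)) ≫ G.map (K.iCycles (n + 1))
        rw [← G.map_comp, K.toCycles_i, Category.id_comp] }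
  haveI : Epi φ.τ₁ := (inferInstance : Epi (𝟙 (G.obj (K.X (n - 1)))))
  haveI : IsIso φ.τ₂ := (inferInstance : IsIso (𝟙 (G.obj (K.X n))))
  haveI : Mono φ.τ₃ := hG (n + 1)
  exact (ShortComplex.exact_iff_of_epi_of_isIso_of_mono φ).1 hSb

end Groth.Agent.Lib.Helper5.Splice
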