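import Mathlib
import Groth.Agent.Lib.Helper5.Stalk.Exact
import Groth.Agent.Lib.Helper5.Stalk.Pull
import Groth.Agent.Lib.Helper5.Stalk.Splice
import Groth.Agent.Lib.Helper5.KFlatSite2.Cycles
import Groth.Prelude.Def_DCoh4

/-!
# Pullback preserves acyclicity of K-flat complexes with flat terms (helper5)
-/
set_option autoImplicit false
set_option linter.unusedSectionVars false
set_option linter.unusedVariables false
set_option linter.style.haveILetI false
universe u
open CategoryTheory CategoryTheory.Limits Opposite TopologicalSpace AlgebraicGeometry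
open Groth.Agent.Lib.Helper5.Misc.StalkTensor Groth.Agent.Lib.Helper5.Sky
  Groth.Agent.Lib.Helper5.Splice

namespace Groth.Agent.Lib.Helper5.StalkAdj

/-- ring level: extension of scalars preserves the injectivity of the first map of a short exact
sequence with flat cokernel -/
theorem mono_extendScalars_of_shortExact {R S : Type u} [CommRing R] [CommRing S] (g : R →+* S)
    (T : ShortComplex (ModuleCat.{u} R)) (hT : T.ShortExact) (hfl : Module.Flat R T.X₃) :
    Mono ((ModuleCat.extendScalars.{u, u, u} g).map T.f) := by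
  rw [ModuleCat.mono_iff_injective]
  have hinj : Function.Injective T.f.hom := (ModuleCat.mono_iff_injective _).1 hT.mono_f
  have hsurj : Function.Surjective T.g.hom := (ModuleCat.epi_iff_surjective _).1 hT.epi_g
  have hex : Function.Exact T.f.hom T.g.hom :=
    (ShortComplex.ShortExact.moduleCat_exact_iff_function_exact T).1 hT.exact
  have := LinearMap.lTensor_injective_of_exact_of_flat T.g.hom hsurj T.f.hom hinj hex
    ((ModuleCat.restrictScalars g).obj (ModuleCat.of S S))
  exact this


variable {X Y : Scheme.{u}} (f : X ⟶ Y)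

/-- the functor `M ↦ M_{f(x)} ⊗ 𝒪_{X,x}` -/
noncomputable abbrev extStalk (x : X) : Y.Modules ⥤ ModuleCat.{u} (X.presheaf.stalk x) :=
  stalkSh Y (f x) ⋙ ModuleCat.extendScalars.{u, u, u} (f.stalkMap x).hom

instance (x : X) : (extStalk f x).IsLeftAdjoint := (adjExt f x).isLeftAdjoint

instance (x : X) : (ModuleCat.extendScalars.{u, u, u} (f.stalkMap x).hom).Additive :=
  (ModuleCat.extendRestrictScalarsAdj.{u, u, u} (f.stalkMap x).hom).left_adjoint_additive

instance (x : X) : (extStalk f x).Additive := by
  dsimp only [extStalk]; infer_instance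

instance (x : X) : PreservesFiniteColimits (extStalk f x) := inferInstance

open Groth.Agent.Lib.Helper5.KFlatSiteQ in
/-- `M ↦ M_{f(x)} ⊗ 𝒪_{X,x}` preserves the injectivity of `Z^n(K) → K^n` for an acyclic K-flat
complex with flat terms -/
theorem mono_extStalk_iCycles (K : CochainComplex Y.Modules ℤ) (hK : DCoh.IsKFlat K)
    (hac : ∀ i, K.ExactAt i) (hfl : ∀ i : ℤ, ModSite.IsFlat (O := Y.sheaf) (K.X i)) (x : X) (n : ℤ) :
    Mono ((extStalk f x).map (K.iCycles n)) := by
  have hS : (cyclesSC K n).ShortExact := by
    haveI : Mono (cyclesSC K n).f := (inferInstance : Mono (K.iCycles n))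
    haveI : Epi (cyclesSC K n).g := epi_toCycles' K n (hac (n + 1))
    exact ShortComplex.ShortExact.mk (cyclesSC_exact K n)
  have hT := hS.map_of_exact (stalkSh Y (f x))
  have hac' : ∀ i, IsZero (K.homology i) := fun i =>
    (HomologicalComplex.exactAt_iff_isZero_homology _ _).1 (hac i)
  have hZ : ModSite.IsFlat (O := Y.sheaf) (K.cycles (n + 1)) :=
    isFlat_cycles (O := Y.sheaf) hK hac' hfl (n + 1)
  have hZx := sflat_of_isFlat (O := Y.sheaf) _ hZ (f x)
  exact mono_extendScalars_of_shortExact (f.stalkMap x).hom _ hT hZx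


/-- **pullback preserves acyclicity of K-flat complexes with flat terms** -/
theorem exactAt_pullback (K : CochainComplex Y.Modules ℤ) (hK : DCoh.IsKFlat K)
    (hac : ∀ i, K.ExactAt i) (hfl : ∀ i : ℤ, ModSite.IsFlat (O := Y.sheaf) (K.X i)) (n : ℤ) :
    (((Scheme.Modules.pullback f).mapHomologicalComplex (ComplexShape.up ℤ)).obj K).ExactAt n := by
  apply exactAt_of_stalks
  intro x
  have h1 := exactAt_map_of_mono_iCycles (extStalk f x) K hac
    (fun n => mono_extStalk_iCycles f K hK hac hfl x n) n
  have e1 := (NatIso.mapHomologicalComplex (stalkPullbackIso f x).symm (ComplexShape.up ℤ)).app K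
  have e2 : ((Scheme.Modules.pullback f ⋙ stalkSh X x).mapHomologicalComplex
      (ComplexShape.up ℤ)).obj K ≅
      ((stalkSh X x).mapHomologicalComplex (ComplexShape.up ℤ)).obj
        (((Scheme.Modules.pullback f).mapHomologicalComplex (ComplexShape.up ℤ)).obj K) :=
    HomologicalComplex.Hom.isoOfComponents (fun i => Iso.refl _) (fun i j _ => by
      simp only [Iso.refl_hom, Category.id_comp, Category.comp_id]
      rfl)
  exact h1.of_iso (e1 ≪≫ e2)

end Groth.Agent.Lib.Helper5.StalkAdj
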