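import Mathlib
import Groth.Agent.Lib.Helper5.Stalk.PullAcyc
import Groth.Agent.Lib.Helper5.KFlatSite2.LTM
import Groth.Prelude.Def_DDual2

/-!
# Existence of the derived pullback `Lf^*` for morphisms of schemes (helper5)
-/
set_option autoImplicit false
set_option linter.unusedSectionVars false
set_option linter.unusedVariables false
set_option linter.style.haveILetI false
universe u
open CategoryTheory CategoryTheory.Limits HomologicalComplex AlgebraicGeometry
attribute [local instance] HasDerivedCategory.standard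

namespace Groth.Agent.Lib.Helper5.LpullLib

open Groth.Agent.Lib.Helper5.StalkAdj Groth.Agent.Lib.Helper5.KFlatSiteQ
  Groth.Agent.Lib.Helper5.KProj.DerHo Groth.Agent.Lib.Helper5.Misc.KFlatSite

variable {X Y : Scheme.{u}} (f : X ⟶ Y)

/-- K-flat complexes with flat terms -/
def KFT (K : CochainComplex Y.Modules ℤ) : Prop :=
  DCoh.IsKFlat K ∧ ∀ i : ℤ, ModSite.IsFlat (O := Y.sheaf) (K.X i)

/-- termwise pullback preserves quasi-isomorphisms between K-flat complexes with flat terms -/
theorem quasiIso_pullback_map {K K' : CochainComplex Y.Modules ℤ} (φ : K ⟶ K')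
    (hK : KFT K) (hK' : KFT K') (hφ : QuasiIso φ) :
    QuasiIso (((Scheme.Modules.pullback f).mapHomologicalComplex (ComplexShape.up ℤ)).map φ) := by
  rw [Groth.Agent.Helper5.FlatAcyc.quasiIso_iff_acyclic_cone]
  have hc : DCoh.IsKFlat (CochainComplex.mappingCone φ) :=
    (isKFlat_cone_two_of_three (O := Y.sheaf) φ).1 hK.1 hK'.1
  have hcfl : ∀ i : ℤ, ModSite.IsFlat (O := Y.sheaf) ((CochainComplex.mappingCone φ).X i) :=
    isFlat_cone_X (O := Y.sheaf) φ hK.2 hK'.2
  have hac : (CochainComplex.mappingCone φ).Acyclic :=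
    (Groth.Agent.Helper5.FlatAcyc.quasiIso_iff_acyclic_cone φ).1 hφ
  intro i
  exact (exactAt_pullback f _ hc hac hcfl i).of_iso
    (CochainComplex.mappingCone.mapHomologicalComplexIso φ (Scheme.Modules.pullback f))

/-- K-flat complexes with flat terms are adapted to `f^*` -/
theorem adaptedCx : AdaptedCx (Scheme.Modules.pullback f) (KFT (Y := Y)) where
  res K := by
    obtain ⟨P, p, h1, h2, h3, _⟩ := exists_isKFlat_resolution (O := Y.sheaf) K
    exact ⟨P, p, ⟨h1, h2⟩, h3⟩
  inv {K K'} φ hK hK' hφ := quasiIso_pullback_map f φ hK hK' hφ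

/-- the derived pullback `Lf^*` exists -/
theorem hasLpull : DCoh.HasLpull f := hasLeftDerivedFunctor (adaptedCx f)

/-- `Lf^*` is computed termwise on K-flat complexes with flat terms -/
noncomputable def lpullObjIso [DCoh.HasLpull f] (E : CochainComplex Y.Modules ℤ) (hE : KFT E) :
    (DCoh.Lpull f).obj (DCoh.toD Y E) ≅
      DCoh.toD X (((Scheme.Modules.pullback f).mapHomologicalComplex (ComplexShape.up ℤ)).obj E) :=
  totalObjIso (adaptedCx f) E hE

end Groth.Agent.Lib.Helper5.LpullLib
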