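import Mathlib
import Groth.Agent.Lib.Helper5.Stalk.Lpull
import Groth.Agent.Lib.Helper5.KFlatSite2.Cell
import Groth.Agent.Lib.Helper5.KFlatSite2.CokerFlat

/-!
# Pullbacks of cellular K-flat complexes (helper5)
-/
set_option autoImplicit false
set_option linter.unusedSectionVars false
set_option linter.unusedVariables false
set_option linter.style.haveILetI false
universe u
open CategoryTheory CategoryTheory.Limits HomologicalComplex AlgebraicGeometry
attribute [local instance] HasDerivedCategory.standard

namespace Groth.Agent.Lib.Helper5.LpullLib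

open Groth.Agent.Lib.Helper5.StalkAdj Groth.Agent.Lib.Helper5.KFlatSiteQ
  Groth.Agent.Lib.Helper5.KProj.DerHo Groth.Agent.Lib.Helper5.Misc.KFlatSite
  Groth.Agent.Lib.Helper5.Pure

variable {X Y : Scheme.{u}} (f : X ⟶ Y)

/-- termwise pullback of complexes -/
noncomputable abbrev pullCx : CochainComplex Y.Modules ℤ ⥤ CochainComplex X.Modules ℤ :=
  (Scheme.Modules.pullback f).mapHomologicalComplex (ComplexShape.up ℤ)

instance : PreservesColimitsOfShape ℕ (pullCx f) := by
  apply HomologicalComplex.preservesColimitsOfShape_of_eval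
  intro i
  have e : pullCx f ⋙ HomologicalComplex.eval X.Modules (ComplexShape.up ℤ) i ≅
      HomologicalComplex.eval Y.Modules (ComplexShape.up ℤ) i ⋙ Scheme.Modules.pullback f :=
    NatIso.ofComponents (fun K => Iso.refl _) (fun φ => by
      simp only [Iso.refl_hom]; rfl)
  exact preservesColimitsOfShape_of_natIso e.symm

/-- the pullback of a tensor-flat module is tensor-flat -/
theorem isFlat_pullback (M : Y.Modules) (hM : ModSite.IsFlat (O := Y.sheaf) M) :
    ModSite.IsFlat (O := X.sheaf) ((Scheme.Modules.pullback f).obj M) :=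
  Groth.Agent.Lib.Helper5.Misc.StalkFlatSch.isFlat_of_flatMod _
    (flatMod_pullback f M (flatMod_of_isFlat M hM))

/-- termwise pullback preserves cellular complexes -/
theorem cell_pullback {K : CochainComplex Y.Modules ℤ} (h : Cell Y.sheaf K) :
    Cell X.sheaf ((pullCx f).obj K) := by
  induction h with
  | zero G hd hfl =>
    apply Cell.zero
    · intro i j
      let G' : CochainComplex Y.Modules ℤ := G
      have h0 : G'.d i j = 0 := hd i j
      show (Scheme.Modules.pullback f).map (G'.d i j) = 0
      rw [h0, Functor.map_zero]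
    · intro n
      exact isFlat_pullback f _ (hfl n)
  | @cone K₁ K₂ φ _ _ ih1 ih2 =>
    let K₁' : CochainComplex Y.Modules ℤ := K₁
    let K₂' : CochainComplex Y.Modules ℤ := K₂
    let φ' : K₁' ⟶ K₂' := φ
    exact Cell.iso (CochainComplex.mappingCone.mapHomologicalComplexIso φ'
      (Scheme.Modules.pullback f)).symm (Cell.cone ((pullCx f).map φ') ih1 ih2)
  | colim D _ ih =>
    let D' : ℕ ⥤ CochainComplex Y.Modules ℤ := D
    exact Cell.iso (preservesColimitIso (pullCx f) D').symm (Cell.colim (D' ⋙ pullCx f) ih)
  | @iso K K' e _ ih =>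
    let K₁' : CochainComplex Y.Modules ℤ := K
    let K₂' : CochainComplex Y.Modules ℤ := K'
    let e' : K₁' ≅ K₂' := e
    exact Cell.iso ((pullCx f).mapIso e') ih

end Groth.Agent.Lib.Helper5.LpullLib
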