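import Mathlib
import Groth.Agent.Lib.Helper5.Stalk.CellPull

/-!
# Composition of derived pullbacks (helper5)
-/
set_option autoImplicit false
set_option linter.unusedSectionVars false
set_option linter.unusedVariables false
set_option linter.style.haveILetI false
universe u
open CategoryTheory CategoryTheory.Limits HomologicalComplex AlgebraicGeometry
attribute [local instance] HasDerivedCategory.standard

namespace Groth.Agent.Lib.Helper5.LpullLib

open Groth.Agent.Lib.Helper5.StalkAdj Groth.Agent.Lib.Helper5.KFlatSiteQ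
  Groth.Agent.Lib.Helper5.KProj.DerHo Groth.Agent.Lib.Helper5.Misc.KFlatSite

section

variable {X Y : Scheme.{u}} (f : X ⟶ Y)

theorem kft_of_cell {K : CochainComplex Y.Modules ℤ} (h : Cell Y.sheaf K) : KFT K :=
  Cell.isKFlat Y.sheaf h

/-- cellular complexes are adapted to `f^*` -/
theorem adaptedCell :
    AdaptedCx (Scheme.Modules.pullback f) (fun K : CochainComplex Y.Modules ℤ => Cell Y.sheaf K) where
  res K := by
    obtain ⟨P, p, h1, h2⟩ := exists_cell_resolution Y.sheaf K
    exact ⟨P, p, h1, h2⟩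
  inv {K K'} φ hK hK' hφ := quasiIso_pullback_map f φ (kft_of_cell hK) (kft_of_cell hK') hφ

/-- every object of `D(O_Y)` is represented by a cellular complex -/
theorem exists_cell_repr (E : DCoh.D Y) :
    ∃ P : CochainComplex Y.Modules ℤ, Cell Y.sheaf P ∧ Nonempty (DerivedCategory.Q.obj P ≅ E) := by
  let E₀ : CochainComplex Y.Modules ℤ := DerivedCategory.Q.objPreimage E
  obtain ⟨P, p, hP, hp⟩ : ∃ (P : CochainComplex Y.Modules ℤ) (p : P ⟶ E₀), Cell Y.sheaf P ∧
      QuasiIso p := by
    obtain ⟨P, p, hP, hp⟩ := exists_cell_resolution Y.sheaf E₀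
    exact ⟨P, p, hP, hp⟩
  refine ⟨P, hP, ⟨?_⟩⟩
  haveI : IsIso (DerivedCategory.Q.map (X := P) (Y := E₀) p) :=
    (DerivedCategory.isIso_Q_map_iff_quasiIso Y.Modules p).2 hp
  exact asIso (DerivedCategory.Q.map (X := P) (Y := E₀) p) ≪≫ DerivedCategory.Q.objObjPreimageIso E

end

variable {X Y Z : Scheme.{u}} (f : X ⟶ Y) (g : Y ⟶ Z)
  [DCoh.HasLpull f] [DCoh.HasLpull g] [DCoh.HasLpull (f ≫ g)]

/-- the counit of `Lf^*` -/
noncomputable abbrev lpullCounit {X Y : Scheme.{u}} (f : X ⟶ Y) [DCoh.HasLpull f] :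
    DerivedCategory.Qh ⋙ DCoh.Lpull f ⟶ DCoh.pullKh f :=
  (DCoh.pullKh f).totalLeftDerivedCounit DerivedCategory.Qh
    (HomotopyCategory.quasiIso Y.Modules (ComplexShape.up ℤ))

/-- the comparison datum `Qh ⋙ Lg^* ⋙ Lf^* ⟶ (f ≫ g)^*` -/
noncomputable def compCounit :
    DerivedCategory.Qh ⋙ (DCoh.Lpull g ⋙ DCoh.Lpull f) ⟶ DCoh.pullKh (f ≫ g) :=
  (Functor.associator _ _ _).inv ≫ Functor.whiskerRight (lpullCounit g) (DCoh.Lpull f) ≫
    (Functor.associator _ _ _).hom ≫
    Functor.whiskerLeft ((Scheme.Modules.pullback g).mapHomotopyCategory (ComplexShape.up ℤ))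
      (lpullCounit f) ≫
    (Functor.associator _ _ _).inv ≫
    Functor.whiskerRight (Functor.mapHomotopyCategoryCompIso
      (Scheme.Modules.pullbackComp f g) (ComplexShape.up ℤ)).hom DerivedCategory.Qh

/-- the comparison morphism `Lg^* ⋙ Lf^* ⟶ L(f ≫ g)^*` -/
noncomputable def compLift : DCoh.Lpull g ⋙ DCoh.Lpull f ⟶ DCoh.Lpull (f ≫ g) :=
  (DCoh.Lpull (f ≫ g)).leftDerivedLift (lpullCounit (f ≫ g))
    (HomotopyCategory.quasiIso Z.Modules (ComplexShape.up ℤ)) _ (compCounit f g)


lemma isIso_compCounit_app (P : CochainComplex Z.Modules ℤ) (hP : Cell Z.sheaf P) :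
    IsIso ((compCounit f g).app ((HomotopyCategory.quotient Z.Modules (ComplexShape.up ℤ)).obj P)) := by
  haveI h1 : IsIso ((lpullCounit g).app
      ((HomotopyCategory.quotient Z.Modules (ComplexShape.up ℤ)).obj P)) :=
    isIso_counit_app (adaptedCell g) (DCoh.Lpull g) (lpullCounit g) P hP
  haveI h2 : IsIso ((lpullCounit f).app
      ((HomotopyCategory.quotient Y.Modules (ComplexShape.up ℤ)).obj ((pullCx g).obj P))) :=
    isIso_counit_app (adaptedCell f) (DCoh.Lpull f) (lpullCounit f) _ (cell_pullback g hP)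
  haveI h2' : IsIso ((lpullCounit f).app
      (((Scheme.Modules.pullback g).mapHomotopyCategory (ComplexShape.up ℤ)).obj
        ((HomotopyCategory.quotient Z.Modules (ComplexShape.up ℤ)).obj P))) := h2
  dsimp only [compCounit, NatTrans.comp_app, Functor.associator_inv_app, Functor.associator_hom_app,
    Functor.whiskerRight_app, Functor.whiskerLeft_app]
  simp only [Category.id_comp]
  infer_instance

theorem isIso_compLift : IsIso (compLift f g) := by
  apply (config := { allowSynthFailures := true }) NatIso.isIso_of_isIso_app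
  intro E
  obtain ⟨P, hP, ⟨e⟩⟩ := exists_cell_repr E
  -- reduce to `E = Q P`
  have hnat : (compLift f g).app E =
      (DCoh.Lpull g ⋙ DCoh.Lpull f).map e.inv ≫ (compLift f g).app (DerivedCategory.Q.obj P) ≫
        (DCoh.Lpull (f ≫ g)).map e.hom := by
    rw [(compLift f g).naturality_assoc, ← CategoryTheory.Functor.map_comp, e.inv_hom_id,
      CategoryTheory.Functor.map_id, Category.comp_id]
  rw [hnat]
  haveI h3 : IsIso ((compLift f g).app (DerivedCategory.Q.obj P)) := by
    have hfac := (DCoh.Lpull (f ≫ g)).leftDerived_fac_app (lpullCounit (f ≫ g))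
      (HomotopyCategory.quasiIso Z.Modules (ComplexShape.up ℤ)) _ (compCounit f g)
      ((HomotopyCategory.quotient Z.Modules (ComplexShape.up ℤ)).obj P)
    haveI h4 : IsIso ((lpullCounit (f ≫ g)).app
        ((HomotopyCategory.quotient Z.Modules (ComplexShape.up ℤ)).obj P)) :=
      isIso_counit_app (adaptedCell (f ≫ g)) (DCoh.Lpull (f ≫ g)) (lpullCounit (f ≫ g)) P hP
    haveI h5 := isIso_compCounit_app f g P hP
    have h6 : IsIso ((compLift f g).app (DerivedCategory.Qh.obj
        ((HomotopyCategory.quotient Z.Modules (ComplexShape.up ℤ)).obj P)) ≫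
        (lpullCounit (f ≫ g)).app ((HomotopyCategory.quotient Z.Modules (ComplexShape.up ℤ)).obj P)) := by
      show IsIso (((DCoh.Lpull (f ≫ g)).leftDerivedLift (lpullCounit (f ≫ g))
        (HomotopyCategory.quasiIso Z.Modules (ComplexShape.up ℤ)) _ (compCounit f g)).app _ ≫ _)
      rw [hfac]; exact h5
    exact @IsIso.of_isIso_comp_right _ _ _ _ _ _ _ h4 h6
  infer_instance

/-- `Lf^* ∘ Lg^* ≅ L(g ∘ f)^*` -/
theorem lpull_comp : Nonempty (DCoh.Lpull g ⋙ DCoh.Lpull f ≅ DCoh.Lpull (f ≫ g)) :=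
  haveI := isIso_compLift f g
  ⟨asIso (compLift f g)⟩

end Groth.Agent.Lib.Helper5.LpullLib
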