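import Mathlib
import Groth.Agent.Lib.Helper5.Stalk.Lpull
import Groth.Agent.Lib.Helper5.KFlatSite2.TorAmpD
import Groth.Prelude.Def_DTor2

/-!
# Tor amplitude of derived pullbacks (helper5)
-/
set_option autoImplicit false
set_option linter.unusedSectionVars false
set_option linter.unusedVariables false
set_option linter.style.haveILetI false
universe u
open CategoryTheory CategoryTheory.Limits HomologicalComplex AlgebraicGeometry
attribute [local instance] HasDerivedCategory.standard

namespace Groth.Agent.Lib.Helper5.LpullLib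

open Groth.Agent.Lib.Helper5.StalkAdj Groth.Agent.Lib.Helper5.KFlatSiteQ
  Groth.Agent.Lib.Helper5.KProj.DerHo Groth.Agent.Lib.Helper5.Misc.KFlatSite
  Groth.Agent.Lib.Helper5.LTM

variable {X Y : Scheme.{u}} (f : X ⟶ Y)

/-- a complex of (stalkwise) flat modules vanishing above `b` is K-flat with flat terms -/
theorem kft_of_flat_bounded (P : CochainComplex Y.Modules ℤ) (b : ℤ)
    (hb : ∀ i : ℤ, b < i → IsZero (P.X i)) (hfl : ∀ i : ℤ, FlatMod.IsFlat (P.X i)) : KFT P := by
  have hfl' : ∀ i, ModSite.IsFlat (O := Y.sheaf) (P.X i) := fun i =>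
    Groth.Agent.Lib.Helper5.Misc.StalkFlatSch.isFlat_of_flatMod (P.X i) (hfl i)
  have hsle : P.IsStrictlyLE b := (CochainComplex.isStrictlyLE_iff P b).2 hb
  exact ⟨isKFlat_of_bounded_above (O := Y.sheaf) P b hsle hfl', hfl'⟩

/-- derived pullback preserves flat amplitude -/
theorem hasFlatAmplitudeIn_Lpull [DCoh.HasLpull f] (E : DCoh.D Y) (a b : ℤ)
    (hE : DCoh.HasFlatAmplitudeIn a b E) : DCoh.HasFlatAmplitudeIn a b ((DCoh.Lpull f).obj E) := by
  obtain ⟨P, hP, hfl, ⟨e⟩⟩ := hE
  have hK : KFT P := kft_of_flat_bounded P b (fun i hi => hP i (Or.inr hi)) hfl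
  refine ⟨((Scheme.Modules.pullback f).mapHomologicalComplex (ComplexShape.up ℤ)).obj P, ?_, ?_, ⟨?_⟩⟩
  · intro i hi
    exact Functor.map_isZero (Scheme.Modules.pullback f) (hP i hi)
  · intro i
    exact flatMod_pullback f (P.X i) (hfl i)
  · exact (lpullObjIso f P hK).symm ≪≫ (DCoh.Lpull f).mapIso e

/-- derived pullback of an object of flat amplitude `[a, b]` has tor amplitude `[a, b]` -/
theorem hasTorAmplitudeIn_Lpull [DCoh.HasLpull f] (E : DCoh.D Y) (a b : ℤ)
    (hE : DCoh.HasFlatAmplitudeIn a b E) : DCoh.HasTorAmplitudeIn a b ((DCoh.Lpull f).obj E) :=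
  hasTorAmplitudeIn_of_hasFlatAmplitudeIn (hasFlatAmplitudeIn_Lpull f E a b hE)

end Groth.Agent.Lib.Helper5.LpullLib
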