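import Mathlib
import Groth.Agent.Lib.Helper5.Stalk.LpullComp
import Groth.Agent.Lib.Helper5.KProj.DerAdj
import Groth.Agent.Lib.Helper5.KProj.LiftIso
import Groth.Agent.Lib.Helper3.KInjDer
import Groth.Agent.Lib.Helper3.ModGroth

/-!
# The derived adjunction `Lf^* ⊣ Rf_*` for schemes (helper5)
-/
set_option autoImplicit false
set_option linter.unusedSectionVars false
set_option linter.unusedVariables false
set_option linter.style.haveILetI false
universe u
open CategoryTheory CategoryTheory.Limits HomologicalComplex AlgebraicGeometry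
attribute [local instance] HasDerivedCategory.standard

namespace Groth.Agent.Lib.Helper5.LpullLib

open Groth.Agent.Lib.Helper5.StalkAdj Groth.Agent.Lib.Helper5.KFlatSiteQ
  Groth.Agent.Lib.Helper5.KProj Groth.Agent.Lib.Helper5.KProj.DerHo
  Groth.Agent.Lib.Helper5.KProj.PtKan2 Groth.Agent.Helper3.KInjDer

variable {X Y : Scheme.{u}} (f : X ⟶ Y)

instance (X : Scheme.{u}) : IsGrothendieckAbelian.{u} X.Modules :=
  Groth.Agent.Helper3.ModGroth.isGrothendieckAbelian _ X.ringCatSheaf

/-- quasi-isomorphisms in `K(O_X)` -/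
abbrev WK (X : Scheme.{u}) : MorphismProperty (HomotopyCategory X.Modules (ComplexShape.up ℤ)) :=
  HomotopyCategory.quasiIso X.Modules (ComplexShape.up ℤ)

/-- the K-level adjunction `f^* ⊣ f_*` -/
noncomputable abbrev adjK :
    (Scheme.Modules.pullback f).mapHomotopyCategory (ComplexShape.up ℤ) ⊣
      (Scheme.Modules.pushforward f).mapHomotopyCategory (ComplexShape.up ℤ) :=
  adjH (Scheme.Modules.pullbackPushforwardAdjunction f) (ComplexShape.up ℤ)

variable [DCoh.HasLpull f] [DCoh.HasRpush f]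

/-- the unit of `Rf_*` -/
noncomputable abbrev rpushUnit : DCoh.pushKh f ⟶ DerivedCategory.Qh ⋙ DCoh.Rpush f :=
  (DCoh.pushKh f).totalRightDerivedUnit DerivedCategory.Qh (WK X)

/-- cellular objects of the homotopy category -/
def CellK (Y : Scheme.{u}) (K : HomotopyCategory Y.Modules (ComplexShape.up ℤ)) : Prop :=
  Cell Y.sheaf K.as

theorem exists_cellK (E : DCoh.D Y) :
    ∃ P, CellK Y P ∧ Nonempty (DerivedCategory.Qh.obj P ≅ E) := by
  obtain ⟨P, hP, ⟨e⟩⟩ := exists_cell_repr E
  exact ⟨(HomotopyCategory.quotient Y.Modules (ComplexShape.up ℤ)).obj P, hP, ⟨e⟩⟩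

/-- the composite `pullKh f ⋙ Rf_*` is adapted to cellular complexes -/
theorem adapted_pull_rpush :
    Adapted (DCoh.pullKh f ⋙ DCoh.Rpush f) (WK Y) (CellK Y) where
  res := (adapted (adaptedCell f)).res
  inv s hK hK' hs := by
    haveI : IsIso ((DCoh.pullKh f).map s) := (adapted (adaptedCell f)).inv s hK hK' hs
    exact inferInstanceAs (IsIso ((DCoh.Rpush f).map ((DCoh.pullKh f).map s)))

/-- `Lf^* ⋙ Rf_*` is the left derived functor of `pullKh f ⋙ Rf_*` -/
theorem isLeft_lpull_rpush :
    (DCoh.Lpull f ⋙ DCoh.Rpush f).IsLeftDerivedFunctor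
      ((Functor.associator _ _ _).inv ≫ Functor.whiskerRight (lpullCounit f) (DCoh.Rpush f))
      (WK Y) := by
  haveI := PtKan2.hasLeftDerivedFunctor DerivedCategory.Qh (adapted_pull_rpush f)
  let N := DCoh.pullKh f ⋙ DCoh.Rpush f
  refine isLeftDerivedFunctor_of_isIso_good DerivedCategory.Qh (WK Y) N
    (N.totalLeftDerived DerivedCategory.Qh (WK Y))
    (N.totalLeftDerivedCounit DerivedCategory.Qh (WK Y)) _ _ (CellK Y) exists_cellK
    (fun P hP => ?_) (fun P hP => ?_)
  · exact PtKan2.isIso_counit_app DerivedCategory.Qh (adapted_pull_rpush f) hP _ _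
  · obtain ⟨P⟩ := P
    haveI : IsIso ((lpullCounit f).app
        ((HomotopyCategory.quotient Y.Modules (ComplexShape.up ℤ)).obj P)) :=
      isIso_counit_app (adaptedCell f) (DCoh.Lpull f) (lpullCounit f) P hP
    dsimp only [NatTrans.comp_app, Functor.associator_inv_app, Functor.whiskerRight_app]
    rw [Category.id_comp]
    exact inferInstanceAs (IsIso ((DCoh.Rpush f).map ((lpullCounit f).app
      ((HomotopyCategory.quotient Y.Modules (ComplexShape.up ℤ)).obj P))))

/-- `Rf_* ⋙ Lf^*` is the right derived functor of `pushKh f ⋙ Lf^*` -/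
theorem isRight_rpush_lpull :
    (DCoh.Rpush f ⋙ DCoh.Lpull f).IsRightDerivedFunctor
      (Functor.whiskerRight (rpushUnit f) (DCoh.Lpull f) ≫ (Functor.associator _ _ _).hom)
      (WK X) := by
  refine (derives (DCoh.pushKh f ⋙ DCoh.Lpull f)).isRightDerivedFunctor_of_isIso _ (fun I => ?_)
  haveI : CochainComplex.IsKInjective I.obj.as := I.property
  haveI h1 : IsIso ((rpushUnit f).app
      ((HomotopyCategory.quotient X.Modules (ComplexShape.up ℤ)).obj I.obj.as)) :=
    isIso_unit_app (DCoh.pushKh f) (rpushUnit f) I.obj.as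
  have h2 : IsIso ((rpushUnit f).app I.obj) := by
    obtain ⟨⟨I⟩, hI⟩ := I
    exact h1
  dsimp only [NatTrans.comp_app, Functor.associator_hom_app, Functor.whiskerRight_app]
  rw [Category.comp_id]
  exact inferInstanceAs (IsIso ((DCoh.Lpull f).map ((rpushUnit f).app I.obj)))

/-- **the derived adjunction** `Lf^* ⊣ Rf_*` -/
noncomputable def lpullRpushAdj : DCoh.Lpull f ⊣ DCoh.Rpush f :=
  haveI := isLeft_lpull_rpush f
  haveI := isRight_rpush_lpull f
  (adjK f).derived (WK Y) (WK X) (lpullCounit f) (rpushUnit f)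

end Groth.Agent.Lib.Helper5.LpullLib
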