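import Mathlib
import Groth.Prelude.Def_DCoh3
import Groth.Prelude.Def_CxOX
import Groth.Agent.S11327
import Groth.Agent.Lib.Helper5.Stalk.LpullAdj
import Groth.Agent.Lib.Helper5.Misc.KInjAdj

/-!
# `Rf_*` commutes with restriction to opens (helper5)
-/
set_option autoImplicit false
set_option linter.style.haveILetI false
universe u
open CategoryTheory CategoryTheory.Limits AlgebraicGeometry
attribute [local instance] HasDerivedCategory.standard

namespace Groth.Agent.Lib.Helper5.RpushRes

open Groth.Agent.Lib.Helper5.LpullLib Groth.Agent.Helper3.KInjDer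

variable {X Y : Scheme.{u}} (f : X ⟶ Y) (V : Y.Opens)

/-- The iso of site functors. -/
noncomputable def siteIso : TopologicalSpace.Opens.map (f ∣_ V).base ⋙ (f ⁻¹ᵁ V).ι.opensFunctor ≅
    V.ι.opensFunctor ⋙ TopologicalSpace.Opens.map f.base :=
  NatIso.ofComponents (fun W => eqToIso (image_morphismRestrict_preimage f V W))

set_option backward.isDefEq.respectTransparency.types false in
set_option backward.defeqAttrib.useBackward true in
/-- `(f_* M)|_V ≅ (f|_V)_* (M|_{f⁻¹V})`, functorially. -/
noncomputable def pushRestrictIso :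
    Scheme.Modules.pushforward f ⋙ Scheme.Modules.restrictFunctor V.ι ≅
      Scheme.Modules.restrictFunctor (f ⁻¹ᵁ V).ι ⋙ Scheme.Modules.pushforward (f ∣_ V) :=
  SheafOfModules.pushforwardComp _ _ ≪≫
    SheafOfModules.pushforwardCongr₂ _ (siteIso f V) (by
      ext : 3
      rename_i W
      simp [SheafedSpace.sheaf, Scheme.Hom.toRingCatSheafHom, siteIso]
      erw [CategoryTheory.Functor.map_id, CategoryTheory.Functor.map_id]
      erw [Category.id_comp, Category.comp_id]
      rw [← Functor.map_comp]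
      congr 1
      have h := (morphismRestrict_app f V W.unop).symm
      rw [eqToHom_op] at h
      exact h) ≪≫
    (SheafOfModules.pushforwardComp _ _).symm

/-- restriction to an open preserves K-injective complexes -/
theorem isKInjective_restrict {X : Scheme.{u}} (U : X.Opens) (I : CochainComplex X.Modules ℤ)
    [I.IsKInjective] :
    CochainComplex.IsKInjective
      (((Scheme.Modules.restrictFunctor U.ι).mapHomologicalComplex (ComplexShape.up ℤ)).obj I) := by
  haveI := Groth.Agent.S11327.preservesFiniteLimits_extZero U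
  exact Groth.Agent.Lib.Helper5.Misc.KInjAdj.isKInjective_map (CxOX.extZeroAdj U.ι) I

variable [DCoh.HasRpush f] [DCoh.HasRpush (f ∣_ V)]
  [PreservesFiniteLimits (Scheme.Modules.restrictFunctor V.ι)]
  [PreservesFiniteLimits (Scheme.Modules.restrictFunctor (f ⁻¹ᵁ V).ι)]

/-- the functor whose right derived functor both sides are -/
noncomputable abbrev NA : HomotopyCategory X.Modules (ComplexShape.up ℤ) ⥤ DCoh.D V :=
  DCoh.pushKh f ⋙ DCoh.restrictD V.ι

/-- the second form -/
noncomputable abbrev NB : HomotopyCategory X.Modules (ComplexShape.up ℤ) ⥤ DCoh.D V :=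
  (Scheme.Modules.restrictFunctor (f ⁻¹ᵁ V).ι).mapHomotopyCategory (ComplexShape.up ℤ) ⋙
    DCoh.pushKh (f ∣_ V)

/-- the comparison of the two underived functors -/
noncomputable def τ : NA f V ≅ NB f V :=
  Functor.associator _ _ _ ≪≫
    Functor.isoWhiskerLeft _ (Functor.mapDerivedCategoryFactorsh _) ≪≫
    (Functor.associator _ _ _).symm ≪≫
    Functor.isoWhiskerRight
      (Functor.mapHomotopyCategoryCompIso (pushRestrictIso f V) (ComplexShape.up ℤ) ≪≫
        (Functor.mapHomotopyCategoryCompIso (Iso.refl _) (ComplexShape.up ℤ)).symm)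
      DerivedCategory.Qh ≪≫
    Functor.associator _ _ _

/-- unit for `Rf_* ⋙ restriction` -/
noncomputable abbrev αA :
    NA f V ⟶ DerivedCategory.Qh ⋙ (DCoh.Rpush f ⋙ DCoh.restrictD V.ι) :=
  Functor.whiskerRight (rpushUnit f) (DCoh.restrictD V.ι) ≫ (Functor.associator _ _ _).hom

theorem isRight_A :
    (DCoh.Rpush f ⋙ DCoh.restrictD V.ι).IsRightDerivedFunctor (αA f V) (WK X) := by
  refine (derives (NA f V)).isRightDerivedFunctor_of_isIso _ (fun I => ?_)
  haveI : CochainComplex.IsKInjective I.obj.as := I.property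
  haveI h1 : IsIso ((rpushUnit f).app
      ((HomotopyCategory.quotient X.Modules (ComplexShape.up ℤ)).obj I.obj.as)) :=
    isIso_unit_app (DCoh.pushKh f) (rpushUnit f) I.obj.as
  have h2 : IsIso ((rpushUnit f).app I.obj) := by
    obtain ⟨⟨I⟩, hI⟩ := I
    exact h1
  dsimp only [NatTrans.comp_app, Functor.associator_hom_app, Functor.whiskerRight_app]
  rw [Category.comp_id]
  exact inferInstanceAs (IsIso ((DCoh.restrictD V.ι).map ((rpushUnit f).app I.obj)))

/-- unit for `restriction ⋙ R(f|_V)_*` -/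
noncomputable abbrev αB :
    NB f V ⟶ DerivedCategory.Qh ⋙ (DCoh.restrictD (f ⁻¹ᵁ V).ι ⋙ DCoh.Rpush (f ∣_ V)) :=
  Functor.whiskerLeft _ (rpushUnit (f ∣_ V)) ≫ (Functor.associator _ _ _).inv ≫
    Functor.whiskerRight (Functor.mapDerivedCategoryFactorsh _).inv (DCoh.Rpush (f ∣_ V)) ≫
    (Functor.associator _ _ _).hom

theorem isRight_B :
    (DCoh.restrictD (f ⁻¹ᵁ V).ι ⋙ DCoh.Rpush (f ∣_ V)).IsRightDerivedFunctor (αB f V) (WK X) := by
  refine (derives (NB f V)).isRightDerivedFunctor_of_isIso _ (fun I => ?_)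
  haveI : CochainComplex.IsKInjective I.obj.as := I.property
  haveI := isKInjective_restrict (f ⁻¹ᵁ V) I.obj.as
  haveI h1 : IsIso ((rpushUnit (f ∣_ V)).app
      ((HomotopyCategory.quotient _ (ComplexShape.up ℤ)).obj
        (((Scheme.Modules.restrictFunctor (f ⁻¹ᵁ V).ι).mapHomologicalComplex
          (ComplexShape.up ℤ)).obj I.obj.as))) :=
    isIso_unit_app (DCoh.pushKh (f ∣_ V)) (rpushUnit (f ∣_ V)) _
  have h2 : IsIso ((rpushUnit (f ∣_ V)).app
      (((Scheme.Modules.restrictFunctor (f ⁻¹ᵁ V).ι).mapHomotopyCategory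
        (ComplexShape.up ℤ)).obj I.obj)) := by
    obtain ⟨⟨I⟩, hI⟩ := I
    exact h1
  dsimp only [NatTrans.comp_app, Functor.associator_hom_app, Functor.associator_inv_app,
    Functor.whiskerRight_app, Functor.whiskerLeft_app]
  rw [Category.comp_id, Category.id_comp]
  haveI : IsIso ((rpushUnit (f ∣_ V)).app
      (((Scheme.Modules.restrictFunctor (f ⁻¹ᵁ V).ι).mapHomotopyCategory (ComplexShape.up ℤ)).obj
        ((Φ X.Modules).functor.obj I))) := h2
  infer_instance

/-- **`Rf_*` commutes with restriction to opens.** -/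
noncomputable def rpushRestrictIso :
    DCoh.Rpush f ⋙ DCoh.restrictD V.ι ≅
      DCoh.restrictD (f ⁻¹ᵁ V).ι ⋙ DCoh.Rpush (f ∣_ V) :=
  haveI := isRight_A f V
  haveI := isRight_B f V
  Functor.rightDerivedNatIso _ _ (αA f V) (αB f V) (WK X) (τ f V)

end Groth.Agent.Lib.Helper5.RpushRes
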