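import Mathlib
import Groth.Prelude.Def_DCoh3
import Groth.Prelude.Def_CohB1
import Groth.Agent.Lib.Helper5.Stalk.RpushRes
import Groth.Agent.Lib.Helper5.Perf.PerfCoh

/-!
# The support of `Rf_* E` for proper `f` (helper5)
-/
set_option autoImplicit false
set_option linter.style.haveILetI false
universe u
open CategoryTheory CategoryTheory.Limits AlgebraicGeometry Opposite TopologicalSpace
attribute [local instance] HasDerivedCategory.standard

namespace Groth.Agent.Lib.Helper5.RpushSupp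

open Groth.Agent.Lib.Helper5.LocalCoh Groth.Agent.Lib.Helper5.PerfCoh
  Groth.Agent.Lib.Helper5.StalkAdj

variable {X : Scheme.{u}}

/-- if `M|_V = 0` then the stalks of `M` at points of `V` vanish -/
theorem subsingleton_stalk_of_isZero_restrict (M : X.Modules) (V : X.Opens)
    (h : IsZero (M.restrict V.ι)) (x : X) (hx : x ∈ V) : Subsingleton (M.presheaf.stalk x) := by
  refine ⟨fun a b => ?_⟩
  suffices h0 : ∀ a : M.presheaf.stalk x, a = 0 by rw [h0 a, h0 b]
  intro a
  obtain ⟨U, hxU, s, rfl⟩ := TopCat.Presheaf.exists_germ_eq M.presheaf a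
  have hle : V.ι ''ᵁ (V.ι ⁻¹ᵁ U) ≤ U := Scheme.Hom.image_preimage_le _ _
  have hxW : x ∈ V.ι ''ᵁ (V.ι ⁻¹ᵁ U) := by
    rw [Scheme.Hom.image_preimage_eq_opensRange_inf, Scheme.Opens.opensRange_ι]
    exact ⟨hx, hxU⟩
  have hsub : Subsingleton Γ(M.restrict V.ι, V.ι ⁻¹ᵁ U) :=
    subsingleton_sections_of_isZero _ h _
  have h0 : M.presheaf.map (homOfLE hle).op s = 0 := hsub.elim _ _
  rw [← TopCat.Presheaf.germ_res_apply M.presheaf (homOfLE hle) x hxW s, h0, map_zero]

/-- if the stalks of `M` at all points of `V` vanish, then `M|_V = 0` -/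
theorem isZero_restrict_of_stalks (M : X.Modules) (V : X.Opens)
    (h : ∀ x : X, x ∈ V → Subsingleton (M.presheaf.stalk x)) : IsZero (M.restrict V.ι) := by
  apply isZero_of_forall_subsingleton
  intro W
  refine ⟨fun s t => ?_⟩
  let F : TopCat.Sheaf Ab X := ⟨M.presheaf, M.isSheaf⟩
  refine TopCat.Presheaf.section_ext F (V.ι ''ᵁ W) s t (fun x hx => ?_)
  have hxV : x ∈ V := by
    obtain ⟨w, -, rfl⟩ := hx
    exact w.2
  haveI := h x hxV
  exact Subsingleton.elim _ _

/-- an object of the derived category all of whose cohomology objects vanish is zero -/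
theorem isZero_of_forall_isZero_HD (E : DCoh.D X) (h : ∀ i : ℤ, IsZero (DCoh.HD E i)) :
    IsZero E := by
  haveI : E.IsLE 0 := by
    rw [DerivedCategory.isLE_iff]
    exact fun i _ => h i
  haveI : E.IsGE 1 := by
    rw [DerivedCategory.isGE_iff]
    exact fun i _ => h i
  rw [IsZero.iff_id_eq_zero]
  exact DerivedCategory.TStructure.t.zero_of_isLE_of_isGE (𝟙 E) 0 1 (by omega)
    inferInstance inferInstance

/-- cohomology sheaves commute with the derived restriction functor -/
noncomputable def hdRestrictDIso (E : DCoh.D X) (V : X.Opens) (i : ℤ) :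
    (DCoh.HD E i).restrict V.ι ≅ DCoh.HD ((DCoh.restrictD V.ι).obj E) i :=
  let F : CochainComplex X.Modules ℤ := DerivedCategory.Q.objPreimage E
  let e₀ : DCoh.toD X F ≅ E := DerivedCategory.Q.objObjPreimageIso E
  hdLocalIso E F e₀ V i ≪≫
    (DerivedCategory.homologyFunctor _ i).mapIso
      (((Scheme.Modules.restrictFunctor V.ι).mapDerivedCategoryFactors.app F).symm ≪≫
        (DCoh.restrictD V.ι).mapIso e₀)

open Groth.Agent.Lib.Helper5.RpushRes in
/-- **the cohomology sheaves of `Rf_* E` are supported in `f(Z)`** when those of `E` are supported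
in the closed set `Z` and `f` is a closed map -/
theorem support_HD_rpush {Y : Scheme.{u}} (f : X ⟶ Y) (hf : IsClosedMap f.base)
    [DCoh.HasRpush f] (Z : Set X) (hZ : IsClosed Z) (E : DCoh.D X)
    (hE : ∀ i : ℤ, CohB1.support (DCoh.HD E i) ⊆ Z) (i : ℤ) :
    CohB1.support (DCoh.HD ((DCoh.Rpush f).obj E) i) ⊆ f.base '' Z := by
  intro y hy
  by_contra hyZ
  have hcl : IsClosed (f.base '' Z) := hf Z hZ
  let V : Y.Opens := ⟨(f.base '' Z)ᶜ, hcl.isOpen_compl⟩
  have hyV : y ∈ V := hyZ
  haveI : DCoh.HasRpush (f ∣_ V) :=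
    Groth.Agent.Helper3.KInjDer.hasRightDerivedFunctor (DCoh.pushKh (f ∣_ V))
  have hEU : IsZero ((DCoh.restrictD (f ⁻¹ᵁ V).ι).obj E) := by
    apply isZero_of_forall_isZero_HD
    intro k
    refine IsZero.of_iso ?_ (hdRestrictDIso E (f ⁻¹ᵁ V) k).symm
    apply isZero_restrict_of_stalks
    intro x hx
    by_contra hns
    have hxZ : x ∈ Z := hE k hns
    exact hx ⟨x, hxZ, rfl⟩
  haveI : DCoh.HasLpull (f ∣_ V) := Groth.Agent.Lib.Helper5.LpullLib.hasLpull (f ∣_ V)
  haveI : (DCoh.Rpush (f ∣_ V)).IsRightAdjoint :=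
    (Groth.Agent.Lib.Helper5.LpullLib.lpullRpushAdj (f ∣_ V)).isRightAdjoint
  have h1 : IsZero ((DCoh.restrictD V.ι).obj ((DCoh.Rpush f).obj E)) :=
    IsZero.of_iso (Functor.map_isZero (DCoh.Rpush (f ∣_ V)) hEU) ((rpushRestrictIso f V).app E)
  have h2 : IsZero ((DCoh.HD ((DCoh.Rpush f).obj E) i).restrict V.ι) :=
    IsZero.of_iso (Functor.map_isZero (DerivedCategory.homologyFunctor _ i) h1)
      (hdRestrictDIso _ V i)
  exact hy (subsingleton_stalk_of_isZero_restrict _ V h2 y hyV)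

end Groth.Agent.Lib.Helper5.RpushSupp
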