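import Mathlib
import Groth.Agent.Lib.Helper5.Stalk.LpullComp
import Groth.Agent.Lib.Helper5.KFlatSite2.BddCell

/-!
# Right t-exactness of the derived pullback, on K-flat complexes with flat terms (helper5)
-/
set_option autoImplicit false
set_option linter.unusedSectionVars false
set_option linter.unusedVariables false
set_option linter.style.haveILetI false
universe u
open CategoryTheory CategoryTheory.Limits HomologicalComplex AlgebraicGeometry
attribute [local instance] HasDerivedCategory.standard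

namespace Groth.Agent.Lib.Helper5.LpullLib

open Groth.Agent.Lib.Helper5.StalkAdj Groth.Agent.Lib.Helper5.KFlatSiteQ

variable {X Y : Scheme.{u}} (f : X ⟶ Y)

/-- a complex which is zero above `n₀ + 1` and exact at `n₀ + 1` stays so after applying a right
exact functor -/
theorem exactAt_map_top {A B : Type*} [Category A] [Category B] [Abelian A] [Abelian B]
    (G : A ⥤ B) [G.Additive] [G.PreservesEpimorphisms]
    (P : CochainComplex A ℤ) (n : ℤ) (hz : IsZero (P.X (n + 1))) (hex : P.ExactAt n) :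
    ((G.mapHomologicalComplex (ComplexShape.up ℤ)).obj P).ExactAt n := by
  rw [HomologicalComplex.exactAt_iff' _ (n - 1) n (n + 1) (by simp) (by simp)] at hex ⊢
  have hg : (P.sc' (n - 1) n (n + 1)).g = 0 := hz.eq_of_tgt _ _
  haveI : Epi (P.sc' (n - 1) n (n + 1)).f := hex.epi_f hg
  have hz' : IsZero (((G.mapHomologicalComplex (ComplexShape.up ℤ)).obj P).X (n + 1)) :=
    Functor.map_isZero G hz
  rw [ShortComplex.exact_iff_epi _ (hz'.eq_of_tgt _ _)]
  show Epi (G.map (P.d (n - 1) n))
  have : Epi (P.d (n - 1) n) := ‹Epi (P.sc' (n - 1) n (n + 1)).f›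
  infer_instance

/-- `f^*` is right t-exact on K-flat complexes with flat terms -/
theorem exactAt_pullCx_above (K : CochainComplex Y.Modules ℤ) (hK : KFT K) (n₀ : ℤ)
    (hex : ∀ i, n₀ < i → K.ExactAt i) (i : ℤ) (hi : n₀ < i) :
    ((pullCx f).obj K).ExactAt i := by
  haveI : K.IsLE n₀ := (CochainComplex.isLE_iff K n₀).2 hex
  let K' : CochainComplex Y.Modules ℤ := K.truncLE n₀
  have hK' : ∀ p, n₀ < p → IsZero (K'.X p) := fun p hp => K'.isZero_of_isStrictlyLE n₀ p hp
  obtain ⟨P, p, hP, hp, hPz⟩ : ∃ (P : CochainComplex Y.Modules ℤ) (p : P ⟶ K'),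
      Cell Y.sheaf P ∧ QuasiIso p ∧ ∀ q, n₀ + 1 < q → IsZero (P.X q) :=
    exists_bdd_cell_resolution Y.sheaf K' n₀ hK'
  let φ : P ⟶ K := p ≫ K.ιTruncLE n₀
  haveI : QuasiIso φ := inferInstance
  haveI hφ' : QuasiIso ((pullCx f).map φ) :=
    quasiIso_pullback_map f φ (kft_of_cell hP) hK inferInstance
  have hPi : ((pullCx f).obj P).ExactAt i := by
    by_cases h1 : n₀ + 1 < i
    · exact ExactAt.of_isZero (Functor.map_isZero (Scheme.Modules.pullback f) (hPz i h1))
    · obtain rfl : i = n₀ + 1 := by omega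
      have hPex : P.ExactAt (n₀ + 1) :=
        (exactAt_iff_of_quasiIsoAt p (n₀ + 1)).2 (ExactAt.of_isZero (hK' _ (by omega)))
      exact exactAt_map_top (Scheme.Modules.pullback f) P (n₀ + 1) (hPz _ (by omega)) hPex
  exact (exactAt_iff_of_quasiIsoAt ((pullCx f).map φ) i).1 hPi

end Groth.Agent.Lib.Helper5.LpullLib
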