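import Mathlib
import Groth.Prelude.Def_DCoh2
import Groth.Agent.Lib.Helper5.Stalk.LpullAdj

/-!
# `Rf_*` preserves objects with cohomology in degrees `≥ n` (helper5)
-/
set_option autoImplicit false
set_option linter.style.haveILetI false
universe u
open CategoryTheory CategoryTheory.Limits AlgebraicGeometry
attribute [local instance] HasDerivedCategory.standard

namespace Groth.Agent.Lib.Helper5.RpushGE

open Groth.Agent.Lib.Helper5.LpullLib Groth.Agent.Helper3.KInjDer

variable {X Y : Scheme.{u}} (f : X ⟶ Y) [DCoh.HasRpush f]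

/-- every object of `D^{≥ n}(O_X)` is represented by a complex of injectives in degrees `≥ n` -/
theorem exists_injective_repr (F : DCoh.D X) (n : ℤ) [F.IsGE n] :
    ∃ (I : CochainComplex X.Modules ℤ), I.IsStrictlyGE n ∧ I.IsKInjective ∧
      Nonempty (F ≅ DerivedCategory.Q.obj I) := by
  haveI : EnoughInjectives X.Modules := IsGrothendieckAbelian.enoughInjectives.{u}
  obtain ⟨K, hK, ⟨e⟩⟩ := DerivedCategory.exists_iso_Q_obj_of_isGE F n
  obtain ⟨L, hL, i, hi⟩ := CochainComplex.Plus.exists_quasiIso_injective ⟨K, n, hK⟩ n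
  let I : CochainComplex X.Modules ℤ :=
    ((InjectiveObject.ι X.Modules).mapHomologicalComplex (ComplexShape.up ℤ)).obj L.obj
  have hI : I.IsStrictlyGE n := by
    dsimp only [I]
    infer_instance
  have hinj : ∀ k : ℤ, Injective (I.X k) := by
    intro k
    exact (L.obj.X k).property
  have hKI : I.IsKInjective := CochainComplex.isKInjective_of_injective I n
  refine ⟨I, hI, hKI, ⟨e ≪≫ ?_⟩⟩
  have hq : QuasiIso (K := K) (L := I) i.hom := hi
  haveI : IsIso (DerivedCategory.Q.map (X := K) (Y := I) i.hom) :=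
    (DerivedCategory.isIso_Q_map_iff_quasiIso _ _).2 hq
  exact asIso (DerivedCategory.Q.map (X := K) (Y := I) i.hom)

/-- `Rf_*` preserves `D^{≥ n}` -/
theorem rpush_isGE (F : DCoh.D X) (n : ℤ) [F.IsGE n] : ((DCoh.Rpush f).obj F).IsGE n := by
  obtain ⟨I, hI, hKI, ⟨e⟩⟩ := exists_injective_repr F n
  haveI := hKI
  haveI := hI
  haveI h1 : IsIso ((rpushUnit f).app
      ((HomotopyCategory.quotient X.Modules (ComplexShape.up ℤ)).obj I)) :=
    isIso_unit_app (DCoh.pushKh f) (rpushUnit f) I
  let J : CochainComplex Y.Modules ℤ :=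
    ((Scheme.Modules.pushforward f).mapHomologicalComplex (ComplexShape.up ℤ)).obj I
  haveI hJ : J.IsStrictlyGE n := by
    dsimp only [J]
    infer_instance
  let e1 : (DCoh.Rpush f).obj F ≅ (DCoh.pushKh f).obj
      ((HomotopyCategory.quotient X.Modules (ComplexShape.up ℤ)).obj I) :=
    (DCoh.Rpush f).mapIso e ≪≫ (asIso ((rpushUnit f).app
      ((HomotopyCategory.quotient X.Modules (ComplexShape.up ℤ)).obj I))).symm
  let e2 : (DCoh.pushKh f).obj ((HomotopyCategory.quotient X.Modules (ComplexShape.up ℤ)).obj I) ≅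
      DerivedCategory.Q.obj J := Iso.refl _
  exact DerivedCategory.TStructure.t.isGE_of_iso (e1 ≪≫ e2).symm n

end Groth.Agent.Lib.Helper5.RpushGE
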