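import Mathlib
import Groth.Prelude.Def_DerSch
import Groth.Agent.Lib.Helper5.KSix.TorComp
import Groth.Agent.Lib.Helper5.KSix.FlatAmpStalk
import Groth.Agent.Lib.Helper5.TorAmp.TorDim

/-!
# Stalks of the direct image along a closed immersion (helper5)
-/
set_option autoImplicit false
set_option linter.unusedSectionVars false
set_option linter.unusedVariables false
universe u
open CategoryTheory CategoryTheory.Limits AlgebraicGeometry Opposite
attribute [local instance] HasDerivedCategory.standard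

namespace Groth.Agent.Lib.Helper5.ClPushStalk

variable {Z X : Scheme.{u}} (i : Z ⟶ X)

/-- comparison map on stalks `(i_* M)_{i z} ⟶ M_z` -/
noncomputable def cmpAb (M : Z.Modules) (z : Z) :
    ((Scheme.Modules.pushforward i).obj M).presheaf.stalk (i.base z) ⟶ M.presheaf.stalk z :=
  TopCat.Presheaf.stalkPushforward Ab i.base M.presheaf z

theorem cmpAb_germ (M : Z.Modules) (z : Z) (U : X.Opens) (hU : i.base z ∈ U)
    (s : ((Scheme.Modules.pushforward i).obj M).presheaf.obj (op U)) :
    cmpAb i M z (((Scheme.Modules.pushforward i).obj M).presheaf.germ U (i.base z) hU s) =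
      M.presheaf.germ (i ⁻¹ᵁ U) z hU s :=
  TopCat.Presheaf.stalkPushforward_germ_apply Ab i.base M.presheaf U z hU s

theorem cmpAb_smul (M : Z.Modules) (z : Z) (r : X.presheaf.stalk (i.base z))
    (m : ((Scheme.Modules.pushforward i).obj M).presheaf.stalk (i.base z)) :
    cmpAb i M z (r • m) = (i.stalkMap z).hom r • cmpAb i M z m := by
  obtain ⟨U, hyU, s, rfl⟩ := X.presheaf.exists_germ_eq (x := i.base z) r
  obtain ⟨V, hyV, t, rfl⟩ := ((Scheme.Modules.pushforward i).obj M).presheaf.exists_germ_eq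
    (x := i.base z) m
  have hyW : i.base z ∈ U ⊓ V := ⟨hyU, hyV⟩
  have hs := X.presheaf.germ_res_apply (homOfLE inf_le_left : U ⊓ V ⟶ U) (i.base z) hyW s
  have ht := ((Scheme.Modules.pushforward i).obj M).presheaf.germ_res_apply
    (homOfLE inf_le_right : U ⊓ V ⟶ V) (i.base z) hyW t
  rw [← hs, ← ht]
  generalize X.presheaf.map (homOfLE inf_le_left : U ⊓ V ⟶ U).op s = s'
  generalize ((Scheme.Modules.pushforward i).obj M).presheaf.map
    (homOfLE inf_le_right : U ⊓ V ⟶ V).op t = t'
  have key : ∀ (a : Γ(X, U ⊓ V))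
      (b : ((Scheme.Modules.pushforward i).obj M).presheaf.obj (op (U ⊓ V))),
      ((Scheme.Modules.pushforward i).obj M).presheaf.germ (U ⊓ V) (i.base z) hyW (a • b) =
        X.presheaf.germ (U ⊓ V) (i.base z) hyW a •
          ((Scheme.Modules.pushforward i).obj M).presheaf.germ (U ⊓ V) (i.base z) hyW b :=
    fun a b => PresheafOfModules.germ_smul (R := X.presheaf)
      (show PresheafOfModules (X.presheaf ⋙ forget₂ CommRingCat RingCat) from
        ((Scheme.Modules.pushforward i).obj M).val) (i.base z) (U ⊓ V) hyW a b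
  have keyM : ∀ (a : Γ(Z, i ⁻¹ᵁ (U ⊓ V))) (b : M.presheaf.obj (op (i ⁻¹ᵁ (U ⊓ V)))),
      M.presheaf.germ (i ⁻¹ᵁ (U ⊓ V)) z hyW (a • b) =
        Z.presheaf.germ (i ⁻¹ᵁ (U ⊓ V)) z hyW a • M.presheaf.germ (i ⁻¹ᵁ (U ⊓ V)) z hyW b :=
    fun a b => PresheafOfModules.germ_smul (R := Z.presheaf)
      (show PresheafOfModules (Z.presheaf ⋙ forget₂ CommRingCat RingCat) from M.val) z
        (i ⁻¹ᵁ (U ⊓ V)) hyW a b
  rw [← key, cmpAb_germ, cmpAb_germ]
  have h1 : (i.stalkMap z).hom (X.presheaf.germ (U ⊓ V) (i.base z) hyW s') =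
      Z.presheaf.germ (i ⁻¹ᵁ (U ⊓ V)) z hyW ((i.app (U ⊓ V)).hom s') :=
    Scheme.Hom.germ_stalkMap_apply i (U ⊓ V) z hyW s'
  rw [h1, ← keyM]
  rfl

/-- the comparison as a linear map over `O_{X, i z}` -/
noncomputable def cmpL (M : Z.Modules) (z : Z) :
    (DerSch.stalkFunctor X (i.base z)).obj ((Scheme.Modules.pushforward i).obj M) ⟶
      (DerSch.stalkOver i z).obj M :=
  ModuleCat.ofHom
    (X := ModuleCat.of (X.presheaf.stalk (i.base z))
      (((Scheme.Modules.pushforward i).obj M).presheaf.stalk (i.base z)))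
    (Y := (ModuleCat.restrictScalars.{u} (i.stalkMap z).hom).obj
      (ModuleCat.of (Z.presheaf.stalk z) (M.presheaf.stalk z)))
    { toFun := fun m => cmpAb i M z m
      map_add' := fun a b => map_add _ a b
      map_smul' := fun r m => cmpAb_smul i M z r m }

theorem cmpL_apply (M : Z.Modules) (z : Z)
    (m : ((Scheme.Modules.pushforward i).obj M).presheaf.stalk (i.base z)) :
    (cmpL i M z).hom m = cmpAb i M z m := rfl

theorem cmpL_naturality {M N : Z.Modules} (φ : M ⟶ N) (z : Z) :
    (DerSch.stalkFunctor X (i.base z)).map ((Scheme.Modules.pushforward i).map φ) ≫ cmpL i N z =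
      cmpL i M z ≫ (DerSch.stalkOver i z).map φ := by
  ext m
  obtain ⟨U, hU, s, rfl⟩ := ((Scheme.Modules.pushforward i).obj M).presheaf.exists_germ_eq
    (x := i.base z) m
  change cmpAb i N z ((DerSch.stalkFunctor X (i.base z)).map ((Scheme.Modules.pushforward i).map φ)
      (((Scheme.Modules.pushforward i).obj M).presheaf.germ U (i.base z) hU s)) =
    (DerSch.stalkFunctor Z z).map φ (cmpAb i M z
      (((Scheme.Modules.pushforward i).obj M).presheaf.germ U (i.base z) hU s))
  rw [DerSch.stalkFunctor_map_germ, cmpAb_germ, cmpAb_germ, DerSch.stalkFunctor_map_germ]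
  rfl

theorem cmpL_bijective [IsClosedImmersion i] (M : Z.Modules) (z : Z) :
    Function.Bijective (cmpL i M z).hom := by
  haveI : IsIso (cmpAb i M z) :=
    TopCat.Presheaf.stalkPushforward.stalkPushforward_iso_of_isInducing Ab
      (f := i.base) i.isClosedEmbedding.isInducing M.presheaf z
  exact ConcreteCategory.bijective_of_isIso (cmpAb i M z)

/-- `(i_* M)_{i z} ≅ M_z` over `O_{X, i z}`, naturally in `M` -/
noncomputable def stalkPushIso [IsClosedImmersion i] (z : Z) :
    Scheme.Modules.pushforward i ⋙ DerSch.stalkFunctor X (i.base z) ≅ DerSch.stalkOver i z :=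
  NatIso.ofComponents
    (fun M => (LinearEquiv.ofBijective (cmpL i M z).hom (cmpL_bijective i M z)).toModuleIso)
    (fun {M N} φ => cmpL_naturality i φ z)

variable {S : Scheme.{u}}

/-- `(i_* M)_{i z} ≅ M_z` over `O_{S, g (i z)}`, naturally in `M` -/
noncomputable def stalkOverPushIso [IsClosedImmersion i] (g : X ⟶ S) (z : Z) :
    Scheme.Modules.pushforward i ⋙ DerSch.stalkOver g (i.base z) ≅ DerSch.stalkOver (i ≫ g) z :=
  (Functor.associator _ _ _).symm ≪≫
    Functor.isoWhiskerRight (stalkPushIso i z)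
      (ModuleCat.restrictScalars.{u} (g.stalkMap (i.base z)).hom) ≪≫
    Functor.associator _ _ _ ≪≫
    Functor.isoWhiskerLeft (DerSch.stalkFunctor Z z)
      (ModuleCat.restrictScalarsComp' (g.stalkMap (i.base z)).hom (i.stalkMap z).hom
        ((i ≫ g).stalkMap z).hom (by rw [Scheme.Hom.stalkMap_comp]; rfl)).symm

/-- the complex of stalks of `i_* F` at `i z` is the complex of stalks of `F` at `z` -/
noncomputable def stalkCxOverPushIso [IsClosedImmersion i] (g : X ⟶ S) (z : Z)
    (F : CochainComplex Z.Modules ℤ) :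
    (DerSch.stalkCxOver g (i.base z)).obj
      (((Scheme.Modules.pushforward i).mapHomologicalComplex (ComplexShape.up ℤ)).obj F) ≅
      (DerSch.stalkCxOver (i ≫ g) z).obj F :=
  HomologicalComplex.Hom.isoOfComponents (fun n => (stalkOverPushIso i g z).app (F.X n))
    (fun n m _ => ((stalkOverPushIso i g z).hom.naturality (F.d n m)).symm)

/-- **Tor amplitude of `i_* F` at `i z` relative to `g` is Tor amplitude of `F` at `z` relative
to `i ≫ g`.** -/
theorem hasTorAmplitudeAt_push_iff [IsClosedImmersion i] (g : X ⟶ S) (a b : ℤ)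
    (F : CochainComplex Z.Modules ℤ) (z : Z) :
    DerSch.HasTorAmplitudeAt g a b
      (((Scheme.Modules.pushforward i).mapHomologicalComplex (ComplexShape.up ℤ)).obj F)
        (i.base z) ↔
      DerSch.HasTorAmplitudeAt (i ≫ g) a b F z :=
  ⟨fun h => Groth.Agent.Helper5.TorAmp.hasTorAmplitudeIn_of_iso
      (DerivedCategory.Q.mapIso (stalkCxOverPushIso i g z F)) h,
    fun h => Groth.Agent.Helper5.TorAmp.hasTorAmplitudeIn_of_iso
      (DerivedCategory.Q.mapIso (stalkCxOverPushIso i g z F)).symm h⟩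

section Comp

open Groth.Agent.Lib.Helper5.KSixTor Groth.Agent.Helper5.TorAmp

variable {X' Y' Z' : Scheme.{u}}

/-- pointwise version of `hasTorAmplitude_comp` -/
theorem hasTorAmplitudeAt_comp (f : X' ⟶ Y') (g : Y' ⟶ Z') (n : ℕ) (x : X')
    (hg : DerSch.HasTorAmplitudeAt g (-(n : ℤ)) 0 (DerSch.unitCx Y') (f.base x))
    (F : CochainComplex X'.Modules ℤ) (a b : ℤ) (hF : DerSch.HasTorAmplitudeAt f a b F x) :
    DerSch.HasTorAmplitudeAt (f ≫ g) (a - n) b F x := by
  let _ : Algebra (Z'.presheaf.stalk (g.base (f.base x))) (Y'.presheaf.stalk (f.base x)) :=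
    (g.stalkMap (f.base x)).hom.toAlgebra
  have hB := hasTorAmplitudeIn_of_iso (stalkUnitCxIso g (f.base x)) hg
  have h1 := Groth.Agent.Helper5.TorRes.s6947 n hB _ a b hF
  let R := ModuleCat.restrictScalars.{u} (g.stalkMap (f.base x)).hom
  have e1 : (DRing.restrictD (algebraMap (Z'.presheaf.stalk (g.base (f.base x)))
      (Y'.presheaf.stalk (f.base x)))).obj (DRing.toD ((DerSch.stalkCxOver f x).obj F)) ≅
      DRing.toD ((R.mapHomologicalComplex (ComplexShape.up ℤ)).obj ((DerSch.stalkCxOver f x).obj F)) :=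
    R.mapDerivedCategoryFactors.app _
  have e2 : DerSch.stalkOver f x ⋙ R ≅ DerSch.stalkOver (f ≫ g) x :=
    Functor.associator _ _ _ ≪≫ Functor.isoWhiskerLeft (DerSch.stalkFunctor X' x)
      (ModuleCat.restrictScalarsComp' (g.stalkMap (f.base x)).hom (f.stalkMap x).hom
        ((f ≫ g).stalkMap x).hom (by rw [Scheme.Hom.stalkMap_comp]; rfl)).symm
  have e3 : (R.mapHomologicalComplex (ComplexShape.up ℤ)).obj ((DerSch.stalkCxOver f x).obj F) ≅
      (DerSch.stalkCxOver (f ≫ g) x).obj F :=
    HomologicalComplex.Hom.isoOfComponents (fun i => e2.app (F.X i))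
      (fun i j _ => (e2.hom.naturality (F.d i j)).symm)
  exact hasTorAmplitudeIn_of_iso (e1 ≪≫ DerivedCategory.Q.mapIso e3) h1

/-- a flat morphism has Tor dimension `0` at every point -/
theorem hasTorAmplitudeAt_unit_of_flat (g : Y' ⟶ Z') [Flat g] (y : Y') :
    DerSch.HasTorAmplitudeAt g 0 0 (DerSch.unitCx Y') y := by
  letI : Algebra (Z'.presheaf.stalk (g.base y)) (Y'.presheaf.stalk y) :=
    (g.stalkMap y).hom.toAlgebra
  haveI : Module.Flat (Z'.presheaf.stalk (g.base y)) (Y'.presheaf.stalk y) := Flat.stalkMap g y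
  exact hasTorAmplitudeIn_of_iso (stalkUnitCxIso g y).symm
    (hasTorAmplitudeIn_single_of_flat (ModuleCat.of (Z'.presheaf.stalk (g.base y))
      (Y'.presheaf.stalk y)))

theorem hasTorDimLE_zero_of_flat (g : Y' ⟶ Z') [Flat g] : DerSch.HasTorDimLE g 0 := by
  intro y
  simpa using hasTorAmplitudeAt_unit_of_flat g y

/-- Tor amplitude relative to `f` gives Tor amplitude relative to `f ≫ g` for flat `g` -/
theorem hasTorAmplitudeAt_comp_flat (f : X' ⟶ Y') (g : Y' ⟶ Z') [Flat g] (x : X')
    (F : CochainComplex X'.Modules ℤ) (a b : ℤ) (hF : DerSch.HasTorAmplitudeAt f a b F x) :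
    DerSch.HasTorAmplitudeAt (f ≫ g) a b F x := by
  have h := hasTorAmplitudeAt_comp f g 0 x (by simpa using hasTorAmplitudeAt_unit_of_flat g (f.base x))
    F a b hF
  simpa using h

/-- absolute Tor amplitude at a point gives Tor amplitude relative to a flat morphism -/
theorem hasTorAmplitudeAt_of_flat (g : Y' ⟶ Z') [Flat g] (y : Y')
    (F : CochainComplex Y'.Modules ℤ) (a b : ℤ)
    (hF : DerSch.HasTorAmplitudeAt (𝟙 Y') a b F y) :
    DerSch.HasTorAmplitudeAt g a b F y := by
  have h := hasTorAmplitudeAt_comp_flat (𝟙 Y') g y F a b hF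
  rwa [Category.id_comp] at h

end Comp

/-- **flat amplitude of `i_* F` on `X` gives Tor amplitude of `F` relative to `i ≫ g`, for a closed
immersion `i` and a flat morphism `g`.** -/
theorem hasTorAmplitude_of_flatAmplitude_push [IsClosedImmersion i] (g : X ⟶ S) [Flat g]
    (F : CochainComplex Z.Modules ℤ) (a b : ℤ)
    (hF : DCoh.HasFlatAmplitudeIn a b (DCoh.toD X
      (((Scheme.Modules.pushforward i).mapHomologicalComplex (ComplexShape.up ℤ)).obj F))) :
    DerSch.HasTorAmplitude (i ≫ g) a b F := by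
  intro z
  rw [← hasTorAmplitudeAt_push_iff]
  apply hasTorAmplitudeAt_of_flat
  rw [Groth.Agent.Lib.Helper5.KSixFlat.hasTorAmplitudeAt_id_iff]
  exact Groth.Agent.Lib.Helper5.KSixFlat.stalk_torAmplitude_of_hasFlatAmplitudeIn _ a b hF (i.base z)

end Groth.Agent.Lib.Helper5.ClPushStalk
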