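import Mathlib
import Groth.Agent.Lib.Helper5.Stalk.FlatPull

/-!
# Pullback along a flat surjective morphism is faithful (helper5)
-/
set_option autoImplicit false
set_option linter.unusedSectionVars false
set_option linter.unusedVariables false
set_option linter.style.haveILetI false
universe u
open CategoryTheory CategoryTheory.Limits Opposite TopologicalSpace AlgebraicGeometry

namespace Groth.Agent.Lib.Helper5.StalkAdj

variable {X Y : Scheme.{u}}

/-- a morphism of `𝒪_X`-modules vanishing on all stalks is zero -/
theorem hom_eq_zero_of_stalks {M N : X.Modules} (χ : M ⟶ N)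
    (h : ∀ x : X, (stalkSh X x).map χ = 0) : χ = 0 := by
  have hz : IsZero (Limits.image χ) := by
    apply isZero_of_stalks
    intro x
    have h1 : (stalkSh X x).map (factorThruImage χ) ≫ (stalkSh X x).map (Limits.image.ι χ) = 0 := by
      rw [← Functor.map_comp, Limits.image.fac, h x]
    haveI : Epi ((stalkSh X x).map (factorThruImage χ)) := inferInstance
    have h2 : (stalkSh X x).map (Limits.image.ι χ) = 0 := by
      rw [← cancel_epi ((stalkSh X x).map (factorThruImage χ)), h1, comp_zero]
    haveI : Mono ((stalkSh X x).map (Limits.image.ι χ)) := inferInstance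
    exact IsZero.of_mono_eq_zero _ h2
  rw [← Limits.image.fac χ, hz.eq_of_src (Limits.image.ι χ) 0, comp_zero]

/-- ring level: extension of scalars along a faithfully flat ring map reflects zero maps -/
theorem eq_zero_of_extendScalars_map_eq_zero {R S : Type u} [CommRing R] [CommRing S]
    (g : R →+* S) (hg : letI := g.toAlgebra; Module.FaithfullyFlat R S)
    {M N : ModuleCat.{u} R} (φ : M ⟶ N)
    (h : (ModuleCat.extendScalars.{u, u, u} g).map φ = 0) : φ = 0 := by
  letI := g.toAlgebra
  haveI : Module.FaithfullyFlat R S := hg
  have h1 : LinearMap.lTensor S φ.hom = 0 := by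
    apply LinearMap.ext
    intro t
    have := congrArg (fun ψ => ψ.hom t) h
    exact this
  have h2 := (Module.FaithfullyFlat.zero_iff_lTensor_zero R S φ.hom).2 h1
  ext m
  simp [h2]

variable (f : X ⟶ Y)

theorem faithfullyFlat_stalkMap [Flat f] (x : X) :
    letI := (f.stalkMap x).hom.toAlgebra
    Module.FaithfullyFlat (Y.presheaf.stalk (f x)) (X.presheaf.stalk x) := by
  letI := (f.stalkMap x).hom.toAlgebra
  haveI : Module.Flat (Y.presheaf.stalk (f x)) (X.presheaf.stalk x) := Flat.stalkMap f x
  haveI : IsLocalHom (algebraMap (Y.presheaf.stalk (f x)) (X.presheaf.stalk x)) := by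
    show IsLocalHom (f.stalkMap x).hom
    infer_instance
  exact Module.FaithfullyFlat.of_flat_of_isLocalHom

/-- pullback along a flat morphism reflects zero maps at the image points -/
theorem pullback_faithful [Flat f] [Surjective f] : (Scheme.Modules.pullback f).Faithful where
  map_injective {M N φ ψ} hφψ := by
    rw [← sub_eq_zero]
    apply hom_eq_zero_of_stalks
    intro y
    obtain ⟨x, rfl⟩ := f.surjective y
    have h0 : (Scheme.Modules.pullback f).map (φ - ψ) = 0 := by
      rw [Functor.map_sub, hφψ, sub_self]
    have hnat : (stalkSh X x).map ((Scheme.Modules.pullback f).map (φ - ψ)) ≫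
        (stalkPullbackIso f x).hom.app N = (stalkPullbackIso f x).hom.app M ≫
          (ModuleCat.extendScalars.{u, u, u} (f.stalkMap x).hom).map
            ((stalkSh Y (f x)).map (φ - ψ)) :=
      (stalkPullbackIso f x).hom.naturality (φ - ψ)
    rw [h0, Functor.map_zero, zero_comp] at hnat
    have h1 : (ModuleCat.extendScalars.{u, u, u} (f.stalkMap x).hom).map
        ((stalkSh Y (f x)).map (φ - ψ)) = 0 := by
      rw [← cancel_epi ((stalkPullbackIso f x).hom.app M), ← hnat, comp_zero]
    exact eq_zero_of_extendScalars_map_eq_zero _ (faithfullyFlat_stalkMap f x) _ h1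

end Groth.Agent.Lib.Helper5.StalkAdj
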